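import Cfsg.Agent.Lib.Transfer.Criteria

/-!
Elementary facts on elements normalising a cyclic `p`-subgroup.
-/

set_option autoImplicit false

namespace Cfsg.Agent.Lib.CyclicSylow90

open Subgroup

universe u

variable {G : Type u} [Group G]

theorem conj_zpow_eq {g x : G} (n : ℤ) : g * x ^ n * g⁻¹ = (g * x * g⁻¹) ^ n :=
  (map_zpow (MulAut.conj g) x n)

/-- An element normalising a cyclic subgroup acts on it by a power map. -/
theorem exists_pow_conj [Finite G] {P : Subgroup G} (hcyc : IsCyclic P) {g : G}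
    (hg : g ∈ normalizer (P : Set G)) : ∃ a : ℕ, ∀ x ∈ P, g * x * g⁻¹ = x ^ a := by
  obtain ⟨⟨x0, hx0⟩, hgen⟩ := hcyc.exists_generator
  have hgx : g * x0 * g⁻¹ ∈ P := (mem_normalizer_iff.mp hg x0).mp hx0
  obtain ⟨a, ha⟩ := mem_powers_iff_mem_zpowers.mpr (hgen ⟨_, hgx⟩)
  refine ⟨a, fun x hx => ?_⟩
  obtain ⟨i, hi⟩ := mem_zpowers_iff.mp (hgen ⟨x, hx⟩)
  have hi' : x0 ^ i = x := congrArg Subtype.val hi
  have ha' : x0 ^ a = g * x0 * g⁻¹ := congrArg Subtype.val ha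
  rw [← hi', conj_zpow_eq, ← ha', ← zpow_natCast, ← zpow_natCast, ← zpow_mul, ← zpow_mul,
    mul_comm]

theorem conj_pow_iterate {P : Subgroup G} {g : G} {a : ℕ}
    (ha : ∀ x ∈ P, g * x * g⁻¹ = x ^ a) (n : ℕ) :
    ∀ x ∈ P, g ^ n * x * (g ^ n)⁻¹ = x ^ a ^ n := by
  induction n with
  | zero => intro x _; simp
  | succ n ih =>
    intro x hx
    have h1 := ih (x ^ a) (P.pow_mem hx a)
    rw [← pow_mul, ← ha x hx] at h1
    rw [pow_succ, pow_succ, show a ^ n * a = a * a ^ n from mul_comm _ _, ← h1]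
    group

variable {p : ℕ} [hp : Fact p.Prime]

omit hp in
theorem pow_pow_eq_one {P : Subgroup G} {k : ℕ} (hk : Nat.card P = p ^ k) {x : G} (hx : x ∈ P) :
    x ^ p ^ k = 1 := by
  have : (⟨x, hx⟩ : P) ^ Nat.card P = 1 := pow_card_eq_one'
  rw [hk] at this
  exact congrArg Subtype.val this

theorem dvd_orderOf_of_mem {P : Subgroup G} (hP : IsPGroup p P) {u : G} (hu : u ∈ P)
    (hu1 : u ≠ 1) : p ∣ orderOf u := by
  obtain ⟨k, hk⟩ := IsPGroup.iff_orderOf.mp hP ⟨u, hu⟩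
  rw [Subgroup.orderOf_mk] at hk
  rcases Nat.eq_zero_or_pos k with rfl | h
  · rw [pow_zero, orderOf_eq_one_iff] at hk; exact absurd hk hu1
  · exact hk ▸ dvd_pow_self p h.ne'

/-- A `p'`-element normalising a cyclic `p`-group and fixing a nontrivial element of it
centralises it. -/
theorem commute_of_fixed [Finite G] {P : Subgroup G} (hP : IsPGroup p P) (hcyc : IsCyclic P)
    {g : G} (hg : g ∈ normalizer (P : Set G)) (hgo : (orderOf g).Coprime p) {u : G} (hu : u ∈ P)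
    (hu1 : u ≠ 1) (hfix : g * u * g⁻¹ = u) : ∀ x ∈ P, g * x = x * g := by
  intro x hx
  obtain ⟨k, hk⟩ := IsPGroup.iff_card.mp hP
  obtain ⟨a, ha⟩ := exists_pow_conj hcyc hg
  have hau : u ^ ((a : ℤ) - 1) = 1 := by
    rw [zpow_sub_one, zpow_natCast, ← ha u hu, hfix, mul_inv_cancel]
  have hpa : ((p : ℕ) : ℤ) ∣ (a : ℤ) - 1 :=
    (Int.natCast_dvd_natCast.mpr (dvd_orderOf_of_mem hP hu hu1)).trans
      (orderOf_dvd_iff_zpow_eq_one.mpr hau)
  obtain ⟨c, hc⟩ : ((p : ℕ) : ℤ) ^ k ∣ (a : ℤ) ^ p ^ k - 1 := by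
    have h1 := dvd_sub_pow_of_dvd_sub (b := (1 : ℤ)) hpa k
    rw [one_pow] at h1
    exact (pow_dvd_pow _ (Nat.le_succ k)).trans h1
  have hfixpow : g ^ p ^ k * x * (g ^ p ^ k)⁻¹ = x := by
    rw [conj_pow_iterate ha _ x hx, ← zpow_natCast, Nat.cast_pow,
      show (a : ℤ) ^ p ^ k = ((p : ℕ) : ℤ) ^ k * c + 1 by rw [← hc]; ring, zpow_add, zpow_mul,
      ← Nat.cast_pow, zpow_natCast, pow_pow_eq_one hk hx, one_zpow, one_mul, zpow_one]
  obtain ⟨m, hm⟩ := exists_pow_eq_self_of_coprime (n := p ^ k) (hgo.symm.pow_left k)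
  have hcomm : Commute (g ^ p ^ k) x := mul_inv_eq_iff_eq_mul.mp hfixpow
  have := hcomm.pow_left m
  rwa [hm] at this

/-- A `p'`-element normalising but not centralising a cyclic `p`-group `P` satisfies
`[P, g] = P` elementwise. -/
theorem exists_commutator_eq [Finite G] {P : Subgroup G} (hP : IsPGroup p P) (hcyc : IsCyclic P)
    {g : G} (hg : g ∈ normalizer (P : Set G)) (hgo : (orderOf g).Coprime p)
    (hnc : g ∉ centralizer (P : Set G)) : ∀ x ∈ P, ∃ b ∈ P, b⁻¹ * (g * b * g⁻¹) = x := by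
  intro x hx
  obtain ⟨k, hk⟩ := IsPGroup.iff_card.mp hP
  obtain ⟨a, ha⟩ := exists_pow_conj hcyc hg
  have hPne : p ∣ Nat.card P := by
    rcases Nat.eq_zero_or_pos k with rfl | h
    · refine absurd (mem_centralizer_iff.mpr fun y hy => ?_) hnc
      have := pow_pow_eq_one hk hy
      rw [pow_zero, pow_one] at this
      rw [this, one_mul, mul_one]
    · exact hk ▸ dvd_pow_self p h.ne'
  obtain ⟨⟨u, hu⟩, huo⟩ := exists_prime_orderOf_dvd_card' p hPne
  rw [Subgroup.orderOf_mk] at huo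
  have hu1 : u ≠ 1 := fun e => hp.out.one_lt.ne' (by rw [← huo, e, orderOf_one])
  have hndvd : ¬ ((p : ℕ) : ℤ) ∣ (a : ℤ) - 1 := by
    rintro ⟨c, hc⟩
    refine hnc (mem_centralizer_iff.mpr fun y hy =>
      (commute_of_fixed hP hcyc hg hgo hu hu1 ?_ y hy).symm)
    rw [ha u hu, ← zpow_natCast, show (a : ℤ) = ((p : ℕ) : ℤ) * c + 1 by rw [← hc]; ring,
      zpow_add, zpow_mul, zpow_natCast, ← huo, pow_orderOf_eq_one, one_zpow, one_mul, zpow_one]
  obtain ⟨s, t, hst⟩ := ((Nat.prime_iff_prime_int.mp hp.out).coprime_iff_not_dvd.mpr hndvd).pow_left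
    (m := k)
  refine ⟨x ^ t, P.zpow_mem hx t, ?_⟩
  rw [ha _ (P.zpow_mem hx t)]
  calc (x ^ t)⁻¹ * (x ^ t) ^ a = x ^ (t * ((a : ℤ) - 1)) := by
        rw [← zpow_natCast, ← zpow_neg, ← zpow_mul, ← zpow_add]; ring_nf
    _ = x ^ (1 - s * ((p : ℕ) : ℤ) ^ k) := congrArg _ (by linear_combination hst)
    _ = x := by
        rw [zpow_sub, zpow_one, mul_comm s, zpow_mul, ← Nat.cast_pow, zpow_natCast,
          pow_pow_eq_one hk hx, one_zpow, inv_one, mul_one]

/-- An involution normalising but not centralising a cyclic group of odd prime power order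
inverts it. -/
theorem inverts [Finite G] {P : Subgroup G} (hP : IsPGroup p P) (hcyc : IsCyclic P) (hp2 : p ≠ 2)
    {s : G} (hs : s * s = 1) (hg : s ∈ normalizer (P : Set G))
    (hnc : s ∉ centralizer (P : Set G)) : ∀ x ∈ P, s * x * s⁻¹ = x⁻¹ := by
  intro x hx
  have hso : (orderOf s).Coprime p :=
    (((Nat.coprime_primes Nat.prime_two hp.out).mpr (Ne.symm hp2))).coprime_dvd_left
      (orderOf_dvd_of_pow_eq_one (by rw [pow_two, hs]))
  obtain ⟨b, hb, rfl⟩ := exists_commutator_eq hP hcyc hg hso hnc x hx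
  have hinv : s⁻¹ = s := inv_eq_of_mul_eq_one_right hs
  simp only [hinv, mul_inv_rev, inv_inv, ← mul_assoc]
  simp only [mul_assoc, hs, mul_one]

/-- A finite order element is the commuting product of a `p`-element and a `p'`-element. -/
theorem exists_parts [Finite G] (x : G) :
    ∃ a b : G, a * b = x ∧ (∃ k, a ^ p ^ k = 1) ∧ (orderOf b).Coprime p ∧
      a ∈ zpowers x ∧ b ∈ zpowers x := by
  obtain ⟨k, m, hm, hkm⟩ :=
    Nat.exists_eq_pow_mul_and_not_dvd (orderOf_pos x).ne' p hp.out.ne_one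
  have hcop : IsCoprime ((p ^ k : ℕ) : ℤ) (m : ℤ) :=
    Nat.Coprime.isCoprime (((hp.out.coprime_iff_not_dvd.mpr hm)).pow_left k)
  obtain ⟨s, t, hst⟩ := hcop
  refine ⟨x ^ (t * (m : ℤ)), x ^ (s * ((p ^ k : ℕ) : ℤ)), ?_, ⟨k, ?_⟩, ?_,
    zpow_mem (mem_zpowers x) _, zpow_mem (mem_zpowers x) _⟩
  · rw [← zpow_add, add_comm, hst, zpow_one]
  · rw [← zpow_natCast, ← zpow_mul, ← orderOf_dvd_iff_zpow_eq_one, hkm]
    exact ⟨t, by push_cast; ring⟩
  · refine Nat.Coprime.coprime_dvd_left (orderOf_dvd_of_pow_eq_one (n := m) ?_)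
      (hp.out.coprime_iff_not_dvd.mpr hm).symm
    rw [← zpow_natCast, ← zpow_mul, ← orderOf_dvd_iff_zpow_eq_one, hkm]
    exact ⟨s, by push_cast; ring⟩

end Cfsg.Agent.Lib.CyclicSylow90
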