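import Cfsg.Agent.Lib.CyclicSylow90.Simple
import Cfsg.Agent.Lib.CNTheorem.Main

/-!
The self-centralising case: counting pairs of involutions.
-/

set_option autoImplicit false

namespace Cfsg.Agent.Lib.CyclicSylow90

open Subgroup

universe u

variable {G : Type u} [Group G] [Finite G] {p : ℕ} [hp : Fact p.Prime]

omit [Finite G] hp in
theorem mul_self_eq_one_of_orderOf_two {s : G} (h : orderOf s = 2) : s * s = 1 := by
  rw [← pow_two, ← h, pow_orderOf_eq_one]

namespace Setup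

section SelfCent

variable (S : Setup p G)
  (hZ : ∀ P : Sylow p G, centralizer ((P : Subgroup G) : Set G) ≤ (P : Subgroup G))
include S hZ

theorem centralizer_le_sylow {u : G} (hu : u ≠ 1) (hpu : ∃ k, u ^ p ^ k = 1) :
    ∃ P : Sylow p G, u ∈ (P : Subgroup G) ∧ centralizer ({u} : Set G) ≤ (P : Subgroup G) := by
  obtain ⟨P, hP⟩ := (isPGroup_zpowers hpu).exists_le_sylow
  have huP : u ∈ (P : Subgroup G) := hP (mem_zpowers u)
  exact ⟨P, huP, (S.centralizer_eq P huP hu).le.trans (hZ P)⟩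

theorem coprime_of_commute {s g : G} (hs : (orderOf s).Coprime p) (hs1 : s ≠ 1)
    (h : g * s = s * g) : (orderOf g).Coprime p := by
  obtain ⟨a, b, rfl, ha, hb, haz, -⟩ := exists_parts (p := p) g
  suffices a = 1 by subst this; rwa [one_mul]
  by_contra ha1
  obtain ⟨P, -, hle⟩ := S.centralizer_le_sylow hZ ha1 ha
  have hsa : s * a = a * s := by
    obtain ⟨i, hi⟩ := mem_zpowers_iff.mp haz
    rw [← hi]
    exact (Commute.zpow_left (show Commute (a * b) s from h) i).symm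
  exact hs1 (eq_one_of_pow_of_coprime
    (mem_pow_eq_one P.2 (hle (mem_centralizer_singleton_iff.mpr hsa))) hs)

theorem not_dvd_card_centralizer {s : G} (hs : (orderOf s).Coprime p) (hs1 : s ≠ 1) :
    ¬ p ∣ Nat.card (centralizer ({s} : Set G)) := by
  intro h
  obtain ⟨⟨x, hx⟩, hxo⟩ := exists_prime_orderOf_dvd_card' p h
  rw [Subgroup.orderOf_mk] at hxo
  have := S.coprime_of_commute hZ hs hs1 (mem_centralizer_singleton_iff.mp hx)
  rw [hxo, Nat.coprime_self] at this
  exact hp.out.ne_one this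

theorem isCNGroup : Cfsg.IsCNGroup G := by
  intro g hg
  have key : ∀ H : Subgroup G, IsMulCommutative H → Group.IsNilpotent H := fun H hH =>
    haveI := hH
    open scoped IsMulCommutative in CommGroup.isNilpotent
  obtain ⟨a, b, rfl, ha, hb, haz, -⟩ := exists_parts (p := p) g
  refine key _ ?_
  by_cases ha1 : a = 1
  · subst ha1
    rw [one_mul] at hg ⊢
    exact S.hab _ (S.not_dvd_card_centralizer hZ hb hg)
  · obtain ⟨P, -, hle⟩ := S.centralizer_le_sylow hZ ha1 ha
    have hle' : centralizer ({a * b} : Set G) ≤ (P : Subgroup G) := by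
      refine le_trans (fun x hx => mem_centralizer_singleton_iff.mpr ?_) hle
      obtain ⟨i, hi⟩ := mem_zpowers_iff.mp haz
      rw [← hi]
      exact Commute.zpow_right (mem_centralizer_singleton_iff.mp hx) i
    exact ⟨⟨fun x y => Subtype.ext (S.commute_of_mem_sylow P (hle' x.2) (hle' y.2))⟩⟩

theorem not_odd : ¬ Odd (Nat.card G) := by
  intro h
  haveI := S.simple
  obtain ⟨a, b, hab⟩ := S.nonab
  exact hab (IsSimpleGroup.comm_iff_isSolvable.mpr
    (CNTheorem.isSolvable_of_odd_cn_aux _ G rfl h (S.isCNGroup hZ)) a b)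

theorem coprime_two {s : G} (hs : orderOf s = 2) : (orderOf s).Coprime p := by
  rw [hs]; exact (Nat.coprime_primes Nat.prime_two hp.out).mpr S.odd.symm

/-- The involutions commuting with a given one are a multiple of `p` in number. -/
theorem dvd_card_commuting {s : G} (hs : orderOf s = 2) :
    p ∣ Nat.card {t : G // orderOf t = 2 ∧ t * s = s * t} := by
  haveI : Fact (2 : ℕ).Prime := ⟨Nat.prime_two⟩
  have hs1 : s ≠ 1 := fun e => by rw [e, orderOf_one] at hs; omega
  have h2 : 2 ∣ Nat.card G := hs ▸ orderOf_dvd_natCard s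
  have hsp : IsPGroup 2 (zpowers s) :=
    isPGroup_zpowers ⟨1, by rw [pow_one, ← hs, pow_orderOf_eq_one]⟩
  obtain ⟨R, hR⟩ := hsp.exists_le_sylow
  have hsR : s ∈ (R : Subgroup G) := hR (mem_zpowers s)
  have hRnd : ¬ p ∣ Nat.card (R : Subgroup G) := by
    obtain ⟨k, hk⟩ := IsPGroup.iff_card.mp R.2
    rw [hk]
    exact fun h => S.odd ((Nat.prime_dvd_prime_iff_eq hp.out Nat.prime_two).mp
      (hp.out.dvd_of_dvd_pow h))
  obtain ⟨y, hyN, hy, hyc⟩ := S.exists_sylow_mover S.odd.symm h2 R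
  -- the involutions commuting with `s` lie in `R`
  have hin : ∀ t : G, orderOf t = 2 → t * s = s * t → t ∈ (R : Subgroup G) := by
    intro t ht hts
    have hC := S.not_dvd_card_centralizer hZ (S.coprime_two hZ hs) hs1
    have hRC : (R : Subgroup G) ≤ centralizer ({s} : Set G) := fun x hx =>
      mem_centralizer_singleton_iff.mpr (S.commute_of_mem hRnd hx hsR)
    have htC : t ∈ centralizer ({s} : Set G) := mem_centralizer_singleton_iff.mpr hts
    have htN : zpowers t ≤ normalizer ((R : Subgroup G) : Set G) := by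
      refine zpowers_le.mpr ?_
      rw [mem_normalizer_iff]
      refine fun x => ⟨fun hx => ?_, fun hx => ?_⟩
      · rwa [S.commute_of_mem hC htC (hRC hx), mul_inv_cancel_right]
      · have h1 := S.commute_of_mem hC htC (hRC hx)
        rw [inv_mul_cancel_right] at h1
        exact mul_left_cancel h1 ▸ hx
    have htp : IsPGroup 2 (zpowers t) :=
      isPGroup_zpowers ⟨1, by rw [pow_one, ← ht, pow_orderOf_eq_one]⟩
    have hsup := IsPGroup.to_sup_of_normal_left' R.2 htp htN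
    exact R.is_maximal' hsup le_sup_left ▸ mem_sup_right (mem_zpowers t)
  let T := {t : G // orderOf t = 2 ∧ t * s = s * t}
  have hmem : ∀ g ∈ zpowers y, ∀ t : T,
      orderOf (g * t.1 * g⁻¹) = 2 ∧ g * t.1 * g⁻¹ * s = s * (g * t.1 * g⁻¹) := by
    intro g hg t
    refine ⟨?_, S.commute_of_mem hRnd ((mem_normalizer_iff.mp (zpowers_le.mpr hyN hg) _).mp
      (hin _ t.2.1 t.2.2)) hsR⟩
    rw [show g * t.1 * g⁻¹ = MulAut.conj g t.1 from rfl, MulEquiv.orderOf_eq]
    exact t.2.1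
  letI : MulAction (zpowers y) T :=
    { smul := fun g t => ⟨g.1 * t.1 * g.1⁻¹, hmem g g.2 t⟩
      one_smul := fun t => Subtype.ext (by change (1 : G) * t.1 * 1⁻¹ = t.1; simp)
      mul_smul := fun g g' t => Subtype.ext (by
        change (g.1 * g'.1) * t.1 * (g.1 * g'.1)⁻¹ = g.1 * (g'.1 * t.1 * g'.1⁻¹) * g.1⁻¹
        group) }
  have h0 : IsEmpty (MulAction.fixedPoints (zpowers y) T) := by
    refine ⟨fun ⟨t, ht⟩ => hyc ?_⟩
    have h1 : y * t.1 * y⁻¹ = t.1 := congrArg Subtype.val (ht ⟨y, mem_zpowers y⟩)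
    have ht1 : t.1 ≠ 1 := fun e => by have := t.2.1; rw [e, orderOf_one] at this; omega
    have hy1 := eq_one_of_pow_of_coprime hy
      (S.coprime_of_commute hZ (S.coprime_two hZ t.2.1) ht1 (mul_inv_eq_iff_eq_mul.mp h1))
    rw [hy1]
    exact one_mem _
  have := (isPGroup_zpowers hy).card_modEq_card_fixedPoints T
  rw [Nat.card_eq_zero.mpr (Or.inl h0)] at this
  exact Nat.modEq_zero_iff_dvd.mp this

omit hp in
theorem inv_conj_involution {s v : G} (hs : orderOf s = 2) (h : s * v * s⁻¹ = v⁻¹) :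
    s * v⁻¹ * s⁻¹ = v := by
  rw [show s * v⁻¹ * s⁻¹ = (s * v * s⁻¹)⁻¹ by group, h, inv_inv]

/-- An involution inverting a nontrivial element of `P` inverts `P`. -/
theorem inverts_sylow (P : Sylow p G) {v s : G} (hv : v ∈ (P : Subgroup G)) (hv1 : v ≠ 1)
    (hs : orderOf s = 2) (h : s * v * s⁻¹ = v⁻¹) :
    ∀ x ∈ (P : Subgroup G), s * x * s⁻¹ = x⁻¹ := by
  have hss : s * s = 1 := by rw [← pow_two, ← hs, pow_orderOf_eq_one]
  have hsi : s⁻¹ = s := inv_eq_of_mul_eq_one_right hss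
  have hkey : ∀ x ∈ (P : Subgroup G), s * x * s⁻¹ ∈ (P : Subgroup G) := by
    intro x hx
    refine hZ P ((S.centralizer_eq P hv hv1).le (mem_centralizer_singleton_iff.mpr ?_))
    have h1 : s * (x * v⁻¹) * s⁻¹ = s * (v⁻¹ * x) * s⁻¹ :=
      congrArg (fun z => s * z * s⁻¹) (S.commute_of_mem_sylow P hx (inv_mem hv))
    have h2 := inv_conj_involution S hZ hs h
    calc s * x * s⁻¹ * v = s * x * s⁻¹ * (s * v⁻¹ * s⁻¹) := by rw [h2]
      _ = s * (x * v⁻¹) * s⁻¹ := by group
      _ = s * (v⁻¹ * x) * s⁻¹ := h1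
      _ = (s * v⁻¹ * s⁻¹) * (s * x * s⁻¹) := by group
      _ = v * (s * x * s⁻¹) := by rw [h2]
  refine inverts P.2 (S.cyc P) S.odd hss ?_ ?_
  · rw [mem_normalizer_iff]
    refine fun x => ⟨hkey x, fun hx => ?_⟩
    have h3 := hkey _ hx
    rw [hsi] at h3
    simpa [mul_assoc, hss, ← mul_assoc s s] using h3
  · intro hc
    rw [← mem_centralizer_iff.mp hc v hv, mul_inv_cancel_right] at h
    have hv2 : v ^ 2 = 1 := by rw [pow_two]; nth_rw 1 [h]; rw [inv_mul_cancel]
    refine hv1 (eq_one_of_pow_of_coprime (mem_pow_eq_one P.2 hv) ?_)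
    exact ((Nat.coprime_primes Nat.prime_two hp.out).mpr S.odd.symm).coprime_dvd_left
      (orderOf_dvd_of_pow_eq_one hv2)

/-- The number of involutions inverting a nontrivial element of `P`, when there is one. -/
theorem card_inverting (P : Sylow p G) {v s : G} (hv : v ∈ (P : Subgroup G)) (hv1 : v ≠ 1)
    (hs : orderOf s = 2) (h : s * v * s⁻¹ = v⁻¹) :
    Nat.card {t : {g : G // orderOf g = 2} // t.1 * v * t.1⁻¹ = v⁻¹} =
      Nat.card (P : Subgroup G) := by
  have hss : s * s = 1 := by rw [← pow_two, ← hs, pow_orderOf_eq_one]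
  have hinv := S.inverts_sylow hZ P hv hv1 hs h
  have hsi : s⁻¹ = s := inv_eq_of_mul_eq_one_right hss
  have hmemP : ∀ t : {t : {g : G // orderOf g = 2} // t.1 * v * t.1⁻¹ = v⁻¹},
      s * t.1.1 ∈ (P : Subgroup G) := by
    intro t
    refine hZ P ((S.centralizer_eq P hv hv1).le (mem_centralizer_singleton_iff.mpr ?_))
    have h1 : s * t.1.1 * v * (s * t.1.1)⁻¹ = v := by
      calc s * t.1.1 * v * (s * t.1.1)⁻¹ = s * (t.1.1 * v * t.1.1⁻¹) * s⁻¹ := by group
        _ = s * v⁻¹ * s⁻¹ := by rw [t.2]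
        _ = v := inv_conj_involution S hZ hs h
    exact mul_inv_eq_iff_eq_mul.mp h1
  have hto : ∀ a ∈ (P : Subgroup G), orderOf (s * a) = 2 := by
    intro a ha
    refine orderOf_eq_prime ?_ ?_
    · have := hinv a ha
      rw [hsi] at this
      rw [pow_two, show s * a * (s * a) = (s * a * s) * a by group, this, inv_mul_cancel]
    · intro e
      have : s = a⁻¹ := eq_inv_of_mul_eq_one_left e
      have h1 := eq_one_of_pow_of_coprime (mem_pow_eq_one P.2 (this ▸ inv_mem ha))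
        (S.coprime_two hZ hs)
      rw [h1, orderOf_one] at hs
      omega
  refine Nat.card_congr
    { toFun := fun t => ⟨s * t.1.1, hmemP t⟩
      invFun := fun a => ⟨⟨s * a.1, hto a a.2⟩, ?_⟩
      left_inv := fun t => Subtype.ext (Subtype.ext (by simp [← mul_assoc, hss]))
      right_inv := fun a => Subtype.ext (by simp [← mul_assoc, hss]) }
  change s * a.1 * v * (s * a.1)⁻¹ = v⁻¹
  rw [show s * a.1 * v * (s * a.1)⁻¹ = s * (a.1 * v * a.1⁻¹) * s⁻¹ by group,
    S.commute_of_mem_sylow P a.2 hv, mul_inv_cancel_right, h]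

/-- The self-centralising case is impossible. -/
theorem false_of_self_centralizing : False := by
  classical
  obtain ⟨P⟩ := (inferInstance : Nonempty (Sylow p G))
  let Inv := {g : G // orderOf g = 2}
  haveI : Fintype G := Fintype.ofFinite G
  have h2 : 2 ∣ Nat.card G := even_iff_two_dvd.mp (Nat.not_odd_iff_even.mp (S.not_odd hZ))
  haveI : Fact (2 : ℕ).Prime := ⟨Nat.prime_two⟩
  obtain ⟨s0, hs0⟩ := exists_prime_orderOf_dvd_card' 2 h2
  -- some involutions do not commute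
  obtain ⟨s1, s2, hs12⟩ : ∃ s t : Inv, s.1 * t.1 ≠ t.1 * s.1 := by
    by_contra hc
    push Not at hc
    set A : Subgroup G := closure {g : G | orderOf g = 2} with hA
    haveI hAn : A.Normal := by
      refine ⟨fun n hn g => ?_⟩
      have h1 : MulAut.conj g n ∈ A.map (MulAut.conj g).toMonoidHom := ⟨n, hn, rfl⟩
      refine (?_ : A.map (MulAut.conj g).toMonoidHom ≤ A) h1
      rw [hA, MonoidHom.map_closure]
      refine closure_mono ?_
      rintro _ ⟨t, ht, rfl⟩
      exact (MulEquiv.orderOf_eq _ t).trans ht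
    rcases S.normal_eq hAn with h | h
    · have h1 : s0 ∈ A := subset_closure hs0
      rw [h, mem_bot] at h1
      rw [h1, orderOf_one] at hs0
      omega
    · obtain ⟨a, b, hab⟩ := S.nonab
      haveI := Subgroup.isMulCommutative_closure (k := {g : G | orderOf g = 2})
        (fun x hx y hy => hc ⟨x, hx⟩ ⟨y, hy⟩)
      exact hab (congrArg Subtype.val (mul_comm'
        (⟨a, h ▸ mem_top a⟩ : A) ⟨b, h ▸ mem_top b⟩))
  -- the conjugation action of `P` on involutions
  letI : MulAction (P : Subgroup G) Inv :=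
    { smul := fun g t => ⟨g.1 * t.1 * g.1⁻¹, (MulEquiv.orderOf_eq (MulAut.conj g.1) t.1).trans t.2⟩
      one_smul := fun t => Subtype.ext (by change (1 : G) * t.1 * 1⁻¹ = t.1; simp)
      mul_smul := fun g g' t => Subtype.ext (by
        change (g.1 * g'.1) * t.1 * (g.1 * g'.1)⁻¹ = g.1 * (g'.1 * t.1 * g'.1⁻¹) * g.1⁻¹
        group) }
  have hne1 : ∀ t : Inv, t.1 ≠ 1 := fun t e => by
    have := t.2; rw [e, orderOf_one] at this; omega
  have horb : ∀ t : Inv, Nat.card (MulAction.orbit (P : Subgroup G) t) =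
      Nat.card (P : Subgroup G) := by
    intro t
    have hst : MulAction.stabilizer (P : Subgroup G) t = ⊥ := by
      refine (eq_bot_iff_forall _).mpr fun g hg => Subtype.ext ?_
      have h1 : g.1 * t.1 * g.1⁻¹ = t.1 := congrArg Subtype.val hg
      exact eq_one_of_pow_of_coprime (mem_pow_eq_one P.2 g.2)
        (S.coprime_of_commute hZ (S.coprime_two hZ t.2) (hne1 t) (mul_inv_eq_iff_eq_mul.mp h1))
    rw [Nat.card_coe_set_eq, ← MulAction.index_stabilizer, hst, index_bot]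
  have hsum : ∀ (f : Inv → ℕ) (d : ℕ), (∀ (g : (P : Subgroup G)) (t : Inv), f (g • t) = f t) →
      (∀ t, d ∣ f t) → Nat.card (P : Subgroup G) * d ∣ ∑ t, f t := by
    intro f d hf hd
    rw [← Finset.sum_fiberwise Finset.univ
      (fun t => (Quotient.mk'' t : MulAction.orbitRel.Quotient (P : Subgroup G) Inv)) f]
    refine Finset.dvd_sum fun c _ => ?_
    induction c using Quotient.inductionOn' with
    | _ t0 =>
      rw [Finset.sum_congr rfl (fun t ht => ?_) (g := fun _ => f t0), Finset.sum_const, smul_eq_mul]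
      · refine mul_dvd_mul (dvd_of_eq ?_) (hd t0)
        rw [← horb t0, Nat.card_eq_fintype_card, Fintype.card_of_subtype]
        intro t
        rw [Finset.mem_filter, Quotient.eq'', MulAction.orbitRel_apply]
        simp
      · rw [Finset.mem_filter, Quotient.eq'', MulAction.orbitRel_apply] at ht
        obtain ⟨g, rfl⟩ := ht.2
        exact hf g t0
  let q := Nat.card (P : Subgroup G)
  have hpI : p ∣ Fintype.card Inv := by
    have h1 := hsum (fun _ => 1) 1 (fun _ _ => rfl) (fun _ => dvd_rfl)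
    rw [mul_one, Finset.sum_const, smul_eq_mul, mul_one, Finset.card_univ] at h1
    exact (P.dvd_card_of_dvd_card S.dvd).trans h1
  -- noncommuting pairs
  let N : Inv → ℕ := fun s => Fintype.card {t : Inv // ¬ t.1 * s.1 = s.1 * t.1}
  have hN1 : ∀ s, p ∣ N s := by
    intro s
    have h1 : p ∣ Fintype.card {t : Inv // t.1 * s.1 = s.1 * t.1} := by
      rw [← Nat.card_eq_fintype_card]
      convert S.dvd_card_commuting hZ s.2 using 1
      exact Nat.card_congr (Equiv.subtypeSubtypeEquivSubtypeInter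
        (fun t => orderOf t = 2) (fun t => t * s.1 = s.1 * t))
    rw [show N s = Fintype.card Inv - Fintype.card {t : Inv // t.1 * s.1 = s.1 * t.1} from
      Fintype.card_subtype_compl _]
    exact Nat.dvd_sub hpI h1
  have hN2 : ∀ (g : (P : Subgroup G)) (t : Inv), N (g • t) = N t := by
    intro g t
    refine Fintype.card_congr (Equiv.subtypeEquiv (MulAction.toPerm g) fun x => ?_).symm
    change ¬ x.1 * t.1 = t.1 * x.1 ↔
      ¬ g.1 * x.1 * g.1⁻¹ * (g.1 * t.1 * g.1⁻¹) = g.1 * t.1 * g.1⁻¹ * (g.1 * x.1 * g.1⁻¹)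
    rw [show g.1 * x.1 * g.1⁻¹ * (g.1 * t.1 * g.1⁻¹) = g.1 * (x.1 * t.1) * g.1⁻¹ by group,
      show g.1 * t.1 * g.1⁻¹ * (g.1 * x.1 * g.1⁻¹) = g.1 * (t.1 * x.1) * g.1⁻¹ by group,
      mul_left_inj, mul_right_inj]
  let W := Σ s : Inv, {t : Inv // ¬ t.1 * s.1 = s.1 * t.1}
  have hW : q * p ∣ Fintype.card W := by
    rw [Fintype.card_sigma]
    exact hsum N p hN2 hN1
  let U := {v : G // v ≠ 1 ∧ (∃ k, v ^ p ^ k = 1) ∧ ∃ s : Inv, s.1 * v * s.1⁻¹ = v⁻¹}
  have hwell : ∀ s t : Inv, ¬ t.1 * s.1 = s.1 * t.1 →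
      t.1 * s.1 ≠ 1 ∧ (∃ k, (t.1 * s.1) ^ p ^ k = 1) ∧
        s.1 * (t.1 * s.1) * s.1⁻¹ = (t.1 * s.1)⁻¹ := by
    intro s t hst
    have hs : s.1 * s.1 = 1 := mul_self_eq_one_of_orderOf_two s.2
    have ht : t.1 * t.1 = 1 := mul_self_eq_one_of_orderOf_two t.2
    have hsi : s.1⁻¹ = s.1 := inv_eq_of_mul_eq_one_right hs
    have hti : t.1⁻¹ = t.1 := inv_eq_of_mul_eq_one_right ht
    have hconj : s.1 * (t.1 * s.1) * s.1⁻¹ = (t.1 * s.1)⁻¹ := by
      rw [mul_inv_rev, hsi, hti, mul_assoc, mul_assoc, hs, mul_one]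
    have hne : t.1 * s.1 ≠ 1 := fun e => hst (by
      rw [e, eq_inv_of_mul_eq_one_left e, hsi, hs])
    refine ⟨hne, ?_, hconj⟩
    obtain ⟨a, b, hab, ha, hb, haz, hbz⟩ := exists_parts (p := p) (t.1 * s.1)
    suffices b = 1 by subst this; rw [← hab, mul_one]; exact ha
    -- `s` inverts `b`; the abelian `p'`-group they generate forces `b ^ 2 = 1`
    obtain ⟨i, hi⟩ := mem_zpowers_iff.mp hbz
    have hsb : s.1 * b * s.1⁻¹ = b⁻¹ := by rw [← hi, conj_zpow_eq, hconj, inv_zpow]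
    have hsN : zpowers s.1 ≤ normalizer (zpowers b : Set G) := by
      refine zpowers_le.mpr ?_
      rw [mem_normalizer_iff]
      intro x
      have key : ∀ x ∈ zpowers b, s.1 * x * s.1⁻¹ ∈ zpowers b := by
        intro x hx
        obtain ⟨j, rfl⟩ := mem_zpowers_iff.mp hx
        rw [conj_zpow_eq, hsb]
        exact zpow_mem (inv_mem (mem_zpowers b)) j
      refine ⟨key x, fun hx => ?_⟩
      have := key _ hx
      rw [hsi] at this
      simpa [mul_assoc, hs, ← mul_assoc s.1 s.1] using this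
    have hK := not_dvd_card_sup hsN (not_dvd_card_zpowers hb)
      (not_dvd_card_zpowers (S.coprime_two hZ s.2))
    have hc := S.commute_of_mem hK (mem_sup_right (mem_zpowers s.1))
      (mem_sup_left (mem_zpowers b))
    have hb2 : b⁻¹ = b := by rw [← hsb, hc, mul_inv_cancel_right]
    by_contra hb1
    have ha1 : a ≠ 1 := by
      intro e
      rw [e, one_mul] at hab
      rw [← hab, hb2] at hconj
      apply hst
      rw [← hab]
      have : (t.1 * s.1)⁻¹ = t.1 * s.1 := by rw [← hab]; exact hb2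
      rw [mul_inv_rev, hsi, hti] at this
      rw [hab]
      exact this.symm
    obtain ⟨Q, -, hle⟩ := S.centralizer_le_sylow hZ ha1 ha
    refine hb1 (eq_one_of_pow_of_coprime (mem_pow_eq_one Q.2
      (hle (mem_centralizer_singleton_iff.mpr ?_))) hb)
    obtain ⟨j, hj⟩ := mem_zpowers_iff.mp haz
    rw [← hi, ← hj]
    exact ((Commute.refl (t.1 * s.1)).zpow_zpow i j).eq
  let e : W ≃ Σ v : U, {s : Inv // s.1 * v.1 * s.1⁻¹ = v.1⁻¹} :=
    { toFun := fun w => ⟨⟨w.2.1.1 * w.1.1, (hwell w.1 w.2.1 w.2.2).1, (hwell w.1 w.2.1 w.2.2).2.1,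
        ⟨w.1, (hwell w.1 w.2.1 w.2.2).2.2⟩⟩, ⟨w.1, (hwell w.1 w.2.1 w.2.2).2.2⟩⟩
      invFun := fun x => ⟨x.2.1, ⟨⟨x.1.1 * x.2.1.1, ?_⟩, ?_⟩⟩
      left_inv := ?_
      right_inv := ?_ }
  rotate_left
  · -- the product is an involution
    obtain ⟨⟨v, hv1, ⟨k, hk⟩, -⟩, ⟨s, hs⟩⟩ := x
    dsimp only at hs ⊢
    have hss : s.1 * s.1 = 1 := mul_self_eq_one_of_orderOf_two s.2
    have hsi : s.1⁻¹ = s.1 := inv_eq_of_mul_eq_one_right hss
    refine orderOf_eq_prime ?_ fun e => ?_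
    · rw [hsi] at hs
      rw [pow_two, show v * s.1 * (v * s.1) = v * (s.1 * v * s.1) by group, hs, mul_inv_cancel]
    · have hv : v = s.1 := by rw [eq_inv_of_mul_eq_one_left e, hsi]
      have := eq_one_of_pow_of_coprime ⟨k, hv ▸ hk⟩ (S.coprime_two hZ s.2)
      exact hne1 s this
  · obtain ⟨⟨v, hv1, ⟨k, hk⟩, -⟩, ⟨s, hs⟩⟩ := x
    dsimp only at hs ⊢
    intro e
    have hss : s.1 * s.1 = 1 := mul_self_eq_one_of_orderOf_two s.2
    rw [mul_assoc, hss, mul_one, ← mul_assoc] at e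
    have hv : v⁻¹ = v := by
      rw [← hs, inv_eq_of_mul_eq_one_right hss, ← e]
    refine hv1 (eq_one_of_pow_of_coprime ⟨k, hk⟩ ?_)
    exact ((Nat.coprime_primes Nat.prime_two hp.out).mpr S.odd.symm).coprime_dvd_left
      (orderOf_dvd_of_pow_eq_one (by rw [pow_two]; nth_rw 1 [← hv]; exact inv_mul_cancel v))
  · rintro ⟨s, ⟨t, ht⟩⟩
    have hss : s.1 * s.1 = 1 := mul_self_eq_one_of_orderOf_two s.2
    simp [mul_assoc, hss]
  · rintro ⟨⟨v, hv⟩, ⟨s, hs⟩⟩
    have hss : s.1 * s.1 = 1 := mul_self_eq_one_of_orderOf_two s.2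
    refine Sigma.subtype_ext (Subtype.ext ?_) rfl
    simp [mul_assoc, hss]
  have hfib : ∀ v : U, Fintype.card {s : Inv // s.1 * v.1 * s.1⁻¹ = v.1⁻¹} = q := by
    rintro ⟨v, hv1, hv, ⟨s, hs⟩⟩
    obtain ⟨Q, hQ⟩ := (isPGroup_zpowers hv).exists_le_sylow
    rw [← Nat.card_eq_fintype_card]
    refine (S.card_inverting hZ Q (hQ (mem_zpowers v)) hv1 s.2 hs).trans ?_
    exact Nat.card_congr (Q.equiv P).toEquiv
  have hWU : Fintype.card W = Fintype.card U * q := by
    rw [Fintype.card_congr e, Fintype.card_sigma, Finset.sum_congr rfl fun v _ => hfib v,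
      Finset.sum_const, smul_eq_mul, Finset.card_univ]
  have hpU : p ∣ Fintype.card U := by
    rw [hWU, mul_comm (Fintype.card U)] at hW
    exact Nat.dvd_of_mul_dvd_mul_left Nat.card_pos hW
  -- `U` has `q - 1` points fixed by `P`, modulo `p`
  letI : MulAction (P : Subgroup G) U :=
    { smul := fun g v => ⟨g.1 * v.1 * g.1⁻¹, by
        obtain ⟨v, hv1, ⟨k, hk⟩, ⟨s, hs⟩⟩ := v
        refine ⟨fun e => hv1 (conj_eq_one_iff.mp e), ⟨k, ?_⟩,
          ⟨⟨g.1 * s.1 * g.1⁻¹, (MulEquiv.orderOf_eq (MulAut.conj g.1) s.1).trans s.2⟩, ?_⟩⟩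
        · rw [conj_pow, hk, mul_one, mul_inv_cancel]
        · change g.1 * s.1 * g.1⁻¹ * (g.1 * v * g.1⁻¹) * (g.1 * s.1 * g.1⁻¹)⁻¹ = _
          rw [show g.1 * s.1 * g.1⁻¹ * (g.1 * v * g.1⁻¹) * (g.1 * s.1 * g.1⁻¹)⁻¹ =
            g.1 * (s.1 * v * s.1⁻¹) * g.1⁻¹ by group, hs]
          group⟩
      one_smul := fun t => Subtype.ext (by change (1 : G) * t.1 * 1⁻¹ = t.1; simp)
      mul_smul := fun g g' t => Subtype.ext (by
        change (g.1 * g'.1) * t.1 * (g.1 * g'.1)⁻¹ = g.1 * (g'.1 * t.1 * g'.1⁻¹) * g.1⁻¹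
        group) }
  have hmod := P.2.card_modEq_card_fixedPoints U
  have hall : ∀ x : (P : Subgroup G), x ≠ 1 → ∃ s : Inv, s.1 * x.1 * s.1⁻¹ = x.1⁻¹ := by
    intro x hx
    obtain ⟨hv1, hv, hs⟩ := hwell s2 s1 hs12
    obtain ⟨Q, hQ⟩ := (isPGroup_zpowers hv).exists_le_sylow
    obtain ⟨g, hg⟩ := MulAction.exists_smul_eq G Q P
    have hmem : g * (s1.1 * s2.1) * g⁻¹ ∈ (P : Subgroup G) := by
      rw [← hg, Sylow.coe_subgroup_smul]
      exact ⟨_, hQ (mem_zpowers _), rfl⟩
    have hinv := S.inverts_sylow hZ P hmem (fun e => hv1 (conj_eq_one_iff.mp e))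
      (s := g * s2.1 * g⁻¹) ((MulEquiv.orderOf_eq (MulAut.conj g) s2.1).trans s2.2)
      (by
        rw [show g * s2.1 * g⁻¹ * (g * (s1.1 * s2.1) * g⁻¹) * (g * s2.1 * g⁻¹)⁻¹ =
          g * (s2.1 * (s1.1 * s2.1) * s2.1⁻¹) * g⁻¹ by group, hs]
        group)
    exact ⟨⟨_, (MulEquiv.orderOf_eq (MulAut.conj g) s2.1).trans s2.2⟩, hinv x.1 x.2⟩
  have hfix : Nat.card (MulAction.fixedPoints (P : Subgroup G) U) =
      Nat.card {x : (P : Subgroup G) // x ≠ 1} := by
    have hin : ∀ v : MulAction.fixedPoints (P : Subgroup G) U, v.1.1 ∈ (P : Subgroup G) := by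
      intro v
      refine hZ P (mem_centralizer_iff.mpr fun g hg => ?_)
      have := congrArg Subtype.val (v.2 ⟨g, hg⟩)
      exact mul_inv_eq_iff_eq_mul.mp this
    refine Nat.card_congr
      { toFun := fun v => ⟨⟨v.1.1, hin v⟩, fun e => v.1.2.1 (congrArg Subtype.val e)⟩
        invFun := fun x => ⟨⟨x.1.1, fun e => x.2 (Subtype.ext e), mem_pow_eq_one P.2 x.1.2,
          hall x.1 x.2⟩, fun g => Subtype.ext ?_⟩
        left_inv := fun v => rfl
        right_inv := fun x => rfl }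
    change g.1 * x.1.1 * g.1⁻¹ = x.1.1
    rw [S.commute_of_mem_sylow P g.2 x.1.2, mul_inv_cancel_right]
  rw [hfix, Nat.card_eq_fintype_card, Nat.card_eq_fintype_card, Fintype.card_subtype_compl,
    Fintype.card_subtype_eq] at hmod
  have h1 : p ∣ Fintype.card (P : Subgroup G) - 1 :=
    Nat.modEq_zero_iff_dvd.mp (hmod.symm.trans (Nat.modEq_zero_iff_dvd.mpr hpU))
  have h2' : p ∣ Fintype.card (P : Subgroup G) := by
    rw [← Nat.card_eq_fintype_card]; exact P.dvd_card_of_dvd_card S.dvd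
  have h3 := Nat.dvd_sub h2' h1
  rw [Nat.sub_sub_self Fintype.card_pos] at h3
  exact hp.out.not_dvd_one h3

end SelfCent

end Setup

end Cfsg.Agent.Lib.CyclicSylow90
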