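import Cfsg.Agent.Lib.CyclicSylow90.Simple

/-!
The case of a nontrivial `p'`-part in `C(P)`: the commuting graph of involutions would be a regular
friendship graph, which is impossible.
-/

set_option autoImplicit false

namespace Cfsg.Agent.Lib.CyclicSylow90

open Subgroup

universe u

/-- There is no regular friendship graph of degree at least three. -/
theorem no_regular_friendship {V : Type*} [Fintype V] [DecidableEq V] (adj : V → V → Prop)
    [DecidableRel adj] (hsymm : ∀ a b, adj a b → adj b a) (hirr : ∀ a, ¬ adj a a) (v0 : V)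
    (k : ℕ) (hk : 3 ≤ k) (hdeg : ∀ a, (Finset.univ.filter (adj a)).card = k)
    (huniq : ∀ a b, a ≠ b → (Finset.univ.filter (fun x => adj a x ∧ adj x b)).card = 1) :
    False := by
  obtain ⟨l, hl, hlk⟩ := Nat.exists_prime_and_dvd (n := k - 1) (by omega)
  haveI : Fact l.Prime := ⟨hl⟩
  have hk1 : (k : ZMod l) = 1 := by
    have h1 : ((k - 1 : ℕ) : ZMod l) = 0 := (ZMod.natCast_eq_zero_iff _ _).mpr hlk
    rw [Nat.cast_sub (by omega : 1 ≤ k), Nat.cast_one] at h1
    exact sub_eq_zero.mp h1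
  let A : Matrix V V (ZMod l) := Matrix.of fun a b => if adj a b then 1 else 0
  let J : Matrix V V (ZMod l) := Matrix.of fun _ _ => 1
  have hA2 : A * A = J := by
    ext a b
    simp only [Matrix.mul_apply, A, J, Matrix.of_apply]
    simp only [ite_zero_mul_ite_zero, mul_one, Finset.sum_boole]
    by_cases hab : a = b
    · subst hab
      rw [show (Finset.univ.filter fun x => adj a x ∧ adj x a) = Finset.univ.filter (adj a) from
        Finset.filter_congr fun x _ => ⟨fun h => h.1, fun h => ⟨h, hsymm a x h⟩⟩, hdeg, hk1]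
    · rw [huniq a b hab, Nat.cast_one]
  have hAJ : A * J = J := by
    ext a b
    simp only [Matrix.mul_apply, A, J, Matrix.of_apply, mul_one, Finset.sum_boole, hdeg, hk1]
  have hpow : ∀ n, A ^ (n + 2) = J := by
    intro n
    induction n with
    | zero => rw [pow_two, hA2]
    | succ n ih => rw [pow_succ', ih, hAJ]
  have hcard : (Fintype.card V : ZMod l) = 1 := by
    have h4 : J * J = J := by
      nth_rw 1 [← hA2]
      rw [Matrix.mul_assoc, hAJ, hAJ]
    have := congrFun (congrFun h4 v0) v0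
    simpa [Matrix.mul_apply, J] using this
  have htr := ZMod.trace_pow_card A
  obtain ⟨n, rfl⟩ : ∃ n, l = n + 2 := ⟨l - 2, by have := hl.two_le; omega⟩
  rw [hpow] at htr
  have h1 : A.trace = 0 := by simp [Matrix.trace, A, hirr]
  have h2 : J.trace = 1 := by simpa [Matrix.trace, J] using hcard
  rw [h1, h2, zero_pow (by omega)] at htr
  exact one_ne_zero htr

variable {G : Type u} [Group G] [Finite G] {p : ℕ} [hp : Fact p.Prime]

omit [Finite G] in
theorem conj_orderOf (g x : G) : orderOf (g * x * g⁻¹) = orderOf x :=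
  MulEquiv.orderOf_eq (MulAut.conj g) x

omit [Finite G] in
theorem conj_commute_iff (g a b : G) :
    g * a * g⁻¹ * (g * b * g⁻¹) = g * b * g⁻¹ * (g * a * g⁻¹) ↔ a * b = b * a := by
  rw [show g * a * g⁻¹ * (g * b * g⁻¹) = g * (a * b) * g⁻¹ by group,
    show g * b * g⁻¹ * (g * a * g⁻¹) = g * (b * a) * g⁻¹ by group, mul_left_inj, mul_right_inj]

namespace Setup

variable (S : Setup p G)
include S

theorem mem_centralizer_sylow_of_commute (P : Sylow p G) {u x : G} (hu : u ∈ (P : Subgroup G))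
    (hu1 : u ≠ 1) (h : x * u = u * x) : x ∈ centralizer ((P : Subgroup G) : Set G) :=
  (S.centralizer_eq P hu hu1).le (mem_centralizer_singleton_iff.mpr h)

/-- Structure forced by a nontrivial `p'`-element centralising `P`. -/
theorem structure_of_central (P : Sylow p G) {z : G} {r : ℕ} (hr : r.Prime) (hrp : r ≠ p)
    (hz : z ∈ centralizer ((P : Subgroup G) : Set G)) (hzo : orderOf z = r) :
    p = 3 ∧ r = 2 ∧ (∀ w ∈ centralizer ((P : Subgroup G) : Set G), (orderOf w).Coprime p →
      w = 1 ∨ w = z) ∧ (∀ T : Sylow 2 G, Nat.card (T : Subgroup G) = 4) ∧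
      (∀ t : G, orderOf t = 2 → ∃ g : G, g * z * g⁻¹ = t) ∧
      ∃ z1 : G, orderOf z1 = 2 ∧ z1 * z = z * z1 ∧
        z1 ∉ centralizer ((P : Subgroup G) : Set G) := by
  classical
  haveI : Fact r.Prime := ⟨hr⟩
  haveI : Fintype G := Fintype.ofFinite G
  set N := normalizer ((P : Subgroup G) : Set G) with hN
  have hcop : ∀ x : G, x ^ r = 1 → (orderOf x).Coprime p := fun x hx =>
    ((Nat.coprime_primes hr hp.out).mpr hrp).coprime_dvd_left (orderOf_dvd_of_pow_eq_one hx)
  have hz1' : z ≠ 1 := fun e => hr.ne_one (by rw [← hzo, e, orderOf_one])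
  have hzr : z ^ r = 1 := hzo ▸ pow_orderOf_eq_one z
  have hCz := S.centralizer_eq_normalizer P hz (hcop z hzr) hz1'
  obtain ⟨R, hR⟩ := (isPGroup_zpowers (p := r) ⟨1, by rw [pow_one, hzr]⟩).exists_le_sylow
  have hzR : z ∈ (R : Subgroup G) := hR (mem_zpowers z)
  have hRnd : ¬ p ∣ Nat.card (R : Subgroup G) := by
    obtain ⟨k, hk⟩ := IsPGroup.iff_card.mp R.2
    rw [hk]
    exact fun h => hrp ((Nat.prime_dvd_prime_iff_eq hp.out hr).mp (hp.out.dvd_of_dvd_pow h)).symm
  obtain ⟨y0, hy0N, ⟨k0, hy0⟩, hy0A⟩ :=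
    S.exists_sylow_mover hrp (hzo ▸ orderOf_dvd_natCard z) R
  set A := centralizer ((R : Subgroup G) : Set G) with hA
  have hAN : A ≤ N := fun x hx => hCz.le
    (mem_centralizer_singleton_iff.mpr (mem_centralizer_iff.mp hx z hzR).symm)
  have hRA : (R : Subgroup G) ≤ A := fun x hx =>
    mem_centralizer_iff.mpr fun y hy => S.commute_of_mem hRnd hy hx
  have hRne : (R : Subgroup G) ≠ ⊥ := fun e => hz1' (mem_bot.mp (e ▸ hzR))
  have hRnt : (R : Subgroup G) ≠ ⊤ := fun e => hRnd (by rw [e, card_top]; exact S.dvd)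
  -- `A = C(R)` has order prime to `p`
  have hAnd : ¬ p ∣ Nat.card A := by
    intro hd
    obtain ⟨⟨v, hv⟩, hvo⟩ := exists_prime_orderOf_dvd_card' p hd
    rw [Subgroup.orderOf_mk] at hvo
    have hv1 : v ≠ 1 := fun e => hp.out.ne_one (by rw [← hvo, e, orderOf_one])
    have hvP : v ∈ (P : Subgroup G) := mem_sylow_of_normalizer P (hAN hv)
      ⟨1, by rw [pow_one, ← hvo, pow_orderOf_eq_one]⟩
    have hRCP : ∀ x ∈ (R : Subgroup G), x ≠ 1 → centralizer ({x} : Set G) = N := fun x hx hx1 =>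
      S.centralizer_eq_normalizer P
        (S.mem_centralizer_sylow_of_commute P hvP hv1 (mem_centralizer_iff.mp hv x hx))
        (coprime_orderOf_of_mem hRnd hx) hx1
    have hNA : N ≤ A := fun g hg => mem_centralizer_iff.mpr fun x hx => by
      by_cases hx1 : x = 1
      · rw [hx1, one_mul, mul_one]
      · exact (mem_centralizer_singleton_iff.mp ((hRCP x hx hx1).ge hg)).symm
    have hAR : A ≤ normalizer ((R : Subgroup G) : Set G) := centralizer_le_normalizer _
    have := S.le_normalizer_sylow P (S.normalizer_ne_top hRne hRnt) (hNA.trans hAR)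
    exact hy0A (hNA (this.le hy0N))
  -- a mover of order `p`
  obtain ⟨y, hyN, hyp, hyA⟩ : ∃ y ∈ normalizer ((R : Subgroup G) : Set G),
      y ^ p = 1 ∧ y ∉ A := by
    have hex : ∃ j, y0 ^ p ^ j ∈ A := ⟨k0, by rw [hy0]; exact one_mem _⟩
    have hj0 : Nat.find hex ≠ 0 := fun e => hy0A (by
      have h := Nat.find_spec hex
      rwa [e, pow_zero, pow_one] at h)
    obtain ⟨j, hj⟩ := Nat.exists_eq_succ_of_ne_zero hj0
    refine ⟨y0 ^ p ^ j, pow_mem hy0N _, ?_, Nat.find_min hex (by omega)⟩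
    have h := Nat.find_spec hex
    rw [hj, pow_succ, pow_mul] at h
    refine eq_one_of_pow_of_coprime ⟨k0, ?_⟩ (coprime_orderOf_of_mem hAnd h)
    rw [pow_right_comm, pow_right_comm y0, hy0, one_pow, one_pow]
  have hypow : ∀ i : ℕ, ∀ w ∈ A, y ^ i * w * (y ^ i)⁻¹ ∈ A := by
    intro i w hw
    refine mem_centralizer_iff.mpr fun x hx => ?_
    have hx' : (y ^ i)⁻¹ * x * y ^ i ∈ (R : Subgroup G) := by
      have := (mem_normalizer_iff.mp (inv_mem (pow_mem hyN i)) x).mp hx
      rwa [inv_inv] at this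
    have h1 := mem_centralizer_iff.mp hw _ hx'
    calc x * (y ^ i * w * (y ^ i)⁻¹) = y ^ i * (((y ^ i)⁻¹ * x * y ^ i) * w) * (y ^ i)⁻¹ := by
          group
      _ = y ^ i * (w * ((y ^ i)⁻¹ * x * y ^ i)) * (y ^ i)⁻¹ := by rw [h1]
      _ = y ^ i * w * (y ^ i)⁻¹ * x := by group
  have hynN : y ∉ N := by
    intro hy
    have hyP := mem_sylow_of_normalizer P hy ⟨1, by rw [pow_one, hyp]⟩
    refine hyA (mem_centralizer_iff.mpr fun x hx => ?_)
    have h1 : y * x * y⁻¹ * x⁻¹ ∈ (R : Subgroup G) :=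
      mul_mem ((mem_normalizer_iff.mp hyN x).mp hx) (inv_mem hx)
    have h2 : y * x * y⁻¹ * x⁻¹ ∈ (P : Subgroup G) := by
      have := (mem_normalizer_iff.mp (hAN (hRA hx)) y⁻¹).mp (inv_mem hyP)
      simpa [mul_assoc] using mul_mem hyP this
    have h3 := eq_one_of_pow_of_coprime (mem_pow_eq_one P.2 h2) (coprime_orderOf_of_mem hRnd h1)
    exact (mul_inv_eq_iff_eq_mul.mp (mul_inv_eq_one.mp h3)).symm
  have hyi : ∀ i : ℕ, 0 < i → i < p → y ^ i ∉ N := by
    intro i hi0 hip hyi
    have hci : (orderOf y).Coprime i := by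
      have := orderOf_dvd_of_pow_eq_one hyp
      refine Nat.Coprime.coprime_dvd_left this (hp.out.coprime_iff_not_dvd.mpr ?_)
      exact fun hd => absurd (Nat.le_of_dvd hi0 hd) (not_le.mpr hip)
    obtain ⟨m, hm⟩ := exists_pow_eq_self_of_coprime hci.symm
    exact hynN (hm ▸ pow_mem hyi m)
  -- distinct conjugates of elements of `C(P)` leave `C(P)`
  have hdisj : ∀ i : ℕ, 0 < i → i < p → ∀ w ∈ centralizer ((P : Subgroup G) : Set G), w ∈ A →
      w ≠ 1 → y ^ i * w * (y ^ i)⁻¹ ∉ centralizer ((P : Subgroup G) : Set G) := by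
    intro i hi0 hip w hw hwA hw1 hw'
    set g := y ^ i with hg
    set w' := g * w * g⁻¹ with hw'def
    have hw'A : w' ∈ A := hypow i w hwA
    have h1 := S.centralizer_eq_normalizer P hw (coprime_orderOf_of_mem hAnd hwA) hw1
    have h2 := S.centralizer_eq_normalizer P hw' (coprime_orderOf_of_mem hAnd hw'A)
      (fun e => hw1 (conj_eq_one_iff.mp e))
    have key : ∀ (m a b : G), m * a * m⁻¹ = b → centralizer ({a} : Set G) = N →
        centralizer ({b} : Set G) = N → ∀ x ∈ (P : Subgroup G), m * x * m⁻¹ ∈ (P : Subgroup G) := by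
      intro m a b hab ha hb x hx
      refine mem_sylow_of_normalizer P (hb.le (mem_centralizer_singleton_iff.mpr ?_)) ?_
      · rw [← hab, conj_commute_iff]
        exact mem_centralizer_singleton_iff.mp (ha.ge (le_normalizer hx))
      · obtain ⟨k, hk⟩ := mem_pow_eq_one P.2 hx
        exact ⟨k, by rw [conj_pow, hk, mul_one, mul_inv_cancel]⟩
    refine hyi i hi0 hip ?_
    rw [← hg, hN, mem_normalizer_iff]
    refine fun x => ⟨key g w w' rfl h1 h2 x, fun hx => ?_⟩
    have := key g⁻¹ w' w (by rw [hw'def]; group) h2 h1 _ hx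
    simpa [mul_assoc] using this
  -- the action of `A` on `P`
  have hcycM : IsCyclic (MulAut (P : Subgroup G)) := by
    haveI := S.cyc P
    obtain ⟨k, hk⟩ := IsPGroup.iff_card.mp P.2
    haveI : IsCyclic (ZMod (Nat.card (P : Subgroup G)))ˣ := by
      rw [hk]; exact ZMod.isCyclic_units_of_prime_pow p hp.out S.odd k
    exact isCyclic_of_surjective (IsCyclic.mulAutMulEquiv (P : Subgroup G)).symm.toMonoidHom
      (MulEquiv.surjective _)
  let φ : A →* MulAut (P : Subgroup G) :=
    ((P : Subgroup G).normalizerMonoidHom).comp (Subgroup.inclusion hAN)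
  have hker : ∀ x : A, φ x = 1 ↔ x.1 ∈ centralizer ((P : Subgroup G) : Set G) := by
    intro x
    change Subgroup.inclusion hAN x ∈ ((P : Subgroup G).normalizerMonoidHom).ker ↔ _
    rw [normalizerMonoidHom_ker, mem_subgroupOf]
    rfl
  have hrange : Nat.card φ.range ∣ p - 1 := by
    haveI := S.cyc P
    obtain ⟨k, hk⟩ := IsPGroup.iff_card.mp P.2
    have h1 : Nat.card φ.range ∣ Nat.card (MulAut (P : Subgroup G)) := card_subgroup_dvd_card _
    have hk0 : k ≠ 0 := by
      rintro rfl
      exact S.sylow_ne_bot P (eq_bot_of_card_eq _ (by rw [hk, pow_zero]))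
    rw [IsCyclic.card_mulAut, hk, Nat.totient_prime_pow hp.out (Nat.pos_of_ne_zero hk0)] at h1
    refine Nat.Coprime.dvd_of_dvd_mul_left ?_ h1
    exact ((hp.out.coprime_iff_not_dvd.mpr fun h =>
      hAnd (h.trans (card_range_dvd φ))).symm).pow_right _
  let ψ : A → MulAut (P : Subgroup G) := fun w =>
    φ ⟨y * w.1 * y⁻¹, by simpa using hypow 1 w.1 w.2⟩
  let Z0 := {w : A // w.1 ∈ centralizer ((P : Subgroup G) : Set G)}
  have hψ : Function.Injective (fun w : Z0 => ψ w.1) := by
    intro w w' h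
    by_contra hne
    have hd : (w.1.1)⁻¹ * w'.1.1 ≠ 1 := fun e =>
      hne (Subtype.ext (Subtype.ext (inv_mul_eq_one.mp e)))
    refine hdisj 1 one_pos hp.out.one_lt _ (mul_mem (inv_mem w.2) w'.2)
      (mul_mem (inv_mem w.1.2) w'.1.2) hd ?_
    rw [pow_one]
    have h3 : φ (⟨y * w.1.1 * y⁻¹, by simpa using hypow 1 _ w.1.2⟩⁻¹ *
        ⟨y * w'.1.1 * y⁻¹, by simpa using hypow 1 _ w'.1.2⟩) = 1 := by
      rw [map_mul, map_inv, inv_mul_eq_one]; exact h
    have h4 := (hker _).mp h3
    simpa [mul_assoc] using h4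
  -- counting the elements of order `r` of `A`
  have hzA : z ∈ A := hRA hzR
  have hA_comm : ∀ a ∈ A, ∀ b ∈ A, a * b = b * a := fun a ha b hb => S.commute_of_mem hAnd ha hb
  let Ω : Subgroup A :=
    { carrier := {x | x ^ r = 1}
      mul_mem' := fun {a b} ha hb => by
        change (a * b) ^ r = 1
        rw [(show Commute a b from Subtype.ext (hA_comm _ a.2 _ b.2)).mul_pow, ha, hb, one_mul]
      one_mem' := one_pow r
      inv_mem' := fun {a} ha => by change a⁻¹ ^ r = 1; rw [inv_pow, ha, inv_one] }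
  haveI := hcycM
  haveI : Fintype (MulAut (P : Subgroup G)) := Fintype.ofFinite _
  have hroot : ∀ {α : Type u} (f : α → MulAut (P : Subgroup G)), Function.Injective f →
      (∀ a, f a ^ r = 1) → Nat.card α ≤ r := by
    intro α f hf hfr
    haveI : Finite α := Finite.of_injective f hf
    refine le_trans ?_ (IsCyclic.card_pow_eq_one_le (α := MulAut (P : Subgroup G)) hr.pos)
    rw [← Fintype.card_subtype, ← Nat.card_eq_fintype_card]
    exact Nat.card_le_card_of_injective (fun a => ⟨f a, hfr a⟩)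
      fun a b h => hf (congrArg Subtype.val h)
  have hψr : ∀ w : A, w ^ r = 1 → ψ w ^ r = 1 := by
    intro w hw
    have hw' : (w.1) ^ r = 1 := congrArg Subtype.val hw
    rw [← map_pow]
    refine (congrArg φ (Subtype.ext ?_)).trans φ.map_one
    change (y * w.1 * y⁻¹) ^ r = 1
    rw [conj_pow, hw', mul_one, mul_inv_cancel]
  have hΩ : Nat.card Ω ≤ r * r := by
    rw [← (φ.comp Ω.subtype).ker.card_mul_index, index_ker]
    refine Nat.mul_le_mul ?_ ?_
    · refine hroot (fun w : (φ.comp Ω.subtype).ker => ψ w.1.1) ?_ fun w => hψr _ w.1.2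
      intro a b h
      exact Subtype.ext (Subtype.ext (congrArg (fun t : Z0 => t.1)
        (@hψ ⟨a.1.1, (hker _).mp a.2⟩ ⟨b.1.1, (hker _).mp b.2⟩ h)))
    · refine hroot (fun w : (φ.comp Ω.subtype).range => w.1) Subtype.val_injective ?_
      rintro ⟨_, w, rfl⟩
      change φ w.1 ^ r = 1
      rw [← map_pow, w.2, map_one]
  have hinj : p * (r - 1) + 1 ≤ Nat.card Ω := by
    let f : Option (Fin p × Fin (r - 1)) → Ω := fun o => o.elim 1 fun ij =>
      ⟨⟨y ^ ij.1.1 * z ^ (ij.2.1 + 1) * (y ^ ij.1.1)⁻¹, hypow _ _ (pow_mem hzA _)⟩, by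
        refine Subtype.ext ?_
        change (y ^ ij.1.1 * z ^ (ij.2.1 + 1) * (y ^ ij.1.1)⁻¹) ^ r = 1
        rw [conj_pow, ← pow_mul, mul_comm, pow_mul, hzr, one_pow, mul_one, mul_inv_cancel]⟩
    have hzne : ∀ j : Fin (r - 1), z ^ (j.1 + 1) ≠ 1 := fun j e => by
      have := Nat.le_of_dvd (Nat.succ_pos _) (hzo ▸ orderOf_dvd_of_pow_eq_one e)
      have := j.2
      omega
    have hval : ∀ o o', f o = f o' → (f o).1.1 = (f o').1.1 := fun o o' h => by rw [h]
    have key : ∀ i i' : ℕ, i ≤ i' → i' < p → ∀ j j' : Fin (r - 1),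
        y ^ i * z ^ (j.1 + 1) * (y ^ i)⁻¹ = y ^ i' * z ^ (j'.1 + 1) * (y ^ i')⁻¹ → i = i' := by
      intro i i' hle hi' j j' h
      by_contra hne
      obtain ⟨d, rfl⟩ := Nat.exists_eq_add_of_le hle
      refine hdisj d (by omega) (by omega) _ (pow_mem hz (j'.1 + 1)) (pow_mem hzA _) (hzne j') ?_
      rw [pow_add y] at h
      have h' : z ^ (j.1 + 1) = y ^ d * z ^ (j'.1 + 1) * (y ^ d)⁻¹ := by
        calc z ^ (j.1 + 1) = (y ^ i)⁻¹ * (y ^ i * z ^ (j.1 + 1) * (y ^ i)⁻¹) * y ^ i := by group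
          _ = _ := by rw [h]; group
      rw [← h']
      exact pow_mem hz _
    have hf : Function.Injective f := by
      rintro (_ | ⟨i, j⟩) (_ | ⟨i', j'⟩) h
      · rfl
      · exact absurd (conj_eq_one_iff.mp (hval _ _ h).symm) (hzne j')
      · exact absurd (conj_eq_one_iff.mp (hval _ _ h)) (hzne j)
      · have h' : y ^ i.1 * z ^ (j.1 + 1) * (y ^ i.1)⁻¹ =
            y ^ i'.1 * z ^ (j'.1 + 1) * (y ^ i'.1)⁻¹ := hval _ _ h
        have hii : i = i' := Fin.ext ((le_total i.1 i'.1).elim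
          (fun hl => key _ _ hl i'.2 j j' h') (fun hl => (key _ _ hl i.2 j' j h'.symm).symm))
        subst hii
        have hzz := mul_left_cancel (mul_right_cancel h')
        have hjj := pow_injOn_Iio_orderOf (x := z)
          (by simp only [Set.mem_Iio, hzo]; have := j.2; omega)
          (by simp only [Set.mem_Iio, hzo]; have := j'.2; omega) hzz
        rw [Fin.ext (by omega : j.1 = j'.1)]
    have := Nat.card_le_card_of_injective f hf
    simpa using this
  have hrp1 : r ≤ p - 1 := by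
    refine Nat.le_of_dvd (by have := hp.out.two_le; omega) (dvd_trans ?_ hrange)
    let zA : A := ⟨z, hzA⟩
    have hzA1 : zA ^ r = 1 := Subtype.ext hzr
    have hne : ψ zA ≠ 1 := fun h =>
      hdisj 1 one_pos hp.out.one_lt z hz hzA hz1' (by rw [pow_one]; exact (hker _).mp h)
    rw [← orderOf_eq_prime (hψr zA hzA1) hne]
    exact Subgroup.orderOf_dvd_natCard _ ⟨_, rfl⟩
  have hpr : r = 2 ∧ p = 3 := by
    have h1 := hinj.trans hΩ
    obtain ⟨a, ha⟩ : ∃ a, r = a + 1 := ⟨r - 1, by have := hr.two_le; omega⟩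
    obtain ⟨b, hb⟩ : ∃ b, p = a + 2 + b := ⟨p - a - 2, by omega⟩
    rw [ha, Nat.add_sub_cancel, hb] at h1
    have hb0 : b = 0 := by
      by_contra hb0
      have : a * 1 ≤ a * b := Nat.mul_le_mul_left a (Nat.one_le_iff_ne_zero.mpr hb0)
      have ha1 : 1 ≤ a := by have := hr.two_le; omega
      nlinarith
    have hodd : Odd p := hp.out.odd_of_ne_two S.odd
    have hre : Even r := by
      rw [show r = p - 1 by omega]
      exact Nat.Odd.sub_odd hodd odd_one
    have := hr.even_iff.mp hre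
    omega
  obtain ⟨rfl, rfl⟩ := hpr
  refine ⟨rfl, rfl, ?_⟩
  -- now `A` is a four group
  have hZ0 : Nat.card Z0 ≤ 2 := by
    refine le_trans ?_ (Nat.le_of_dvd two_pos hrange)
    exact Nat.card_le_card_of_injective
      (fun w : Z0 => (⟨ψ w.1, ⟨_, rfl⟩⟩ : φ.range)) fun a b h => hψ (congrArg Subtype.val h)
  have hAle : Nat.card A ≤ 4 := by
    rw [← φ.ker.card_mul_index, index_ker]
    refine Nat.mul_le_mul (le_trans (Nat.card_le_card_of_injective
      (fun x : φ.ker => (⟨x.1, (hker _).mp x.2⟩ : Z0))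
      fun a b h => Subtype.ext (congrArg (fun t : Z0 => t.1) h)) hZ0) (Nat.le_of_dvd two_pos hrange)
  have hZ0z : ∀ w ∈ centralizer ((P : Subgroup G) : Set G), (orderOf w).Coprime 3 →
      w = 1 ∨ w = z := by
    intro w hw hwo
    by_contra hc
    push Not at hc
    have hCw := S.centralizer_eq_normalizer P hw hwo hc.1
    have hwA : w ∈ A := mem_centralizer_iff.mpr fun x hx =>
      mem_centralizer_singleton_iff.mp (hCw.ge (hAN (hRA hx)))
    let f : Fin 3 → Z0 := ![⟨1, one_mem _⟩, ⟨⟨z, hzA⟩, hz⟩, ⟨⟨w, hwA⟩, hw⟩]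
    have hf : Function.Injective f := by
      intro i j h
      have h' := congrArg (fun t : Z0 => t.1.1) h
      fin_cases i <;> fin_cases j <;> first
        | rfl
        | (exfalso; simp [f] at h'; first
          | exact hc.1 h'
          | exact hc.1 h'.symm
          | exact hc.2 h'
          | exact hc.2 h'.symm
          | exact hz1' h'
          | exact hz1' h'.symm)
    have := (Nat.card_le_card_of_injective f hf).trans hZ0
    simp at this
  have hyR : ∀ i : ℕ, y ^ i * z * (y ^ i)⁻¹ ∈ (R : Subgroup G) := fun i =>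
    (mem_normalizer_iff.mp (pow_mem hyN i) z).mp hzR
  set z1 := y * z * y⁻¹ with hz1def
  have hz1R : z1 ∈ (R : Subgroup G) := by simpa using hyR 1
  have hz1P : z1 ∉ centralizer ((P : Subgroup G) : Set G) := by
    have := hdisj 1 one_pos hp.out.one_lt z hz hzA hz1'
    rwa [pow_one] at this
  have hz1o : orderOf z1 = 2 := (conj_orderOf y z).trans hzo
  have hz1sq : z1 * z1 = 1 := by rw [← pow_two, ← hz1o, pow_orderOf_eq_one]
  have hzsq : z * z = 1 := by rw [← pow_two, hzr]
  have hRcard : Nat.card (R : Subgroup G) = 4 := by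
    refine le_antisymm ((card_le_of_le hRA).trans hAle) ?_
    let f : Fin 4 → (R : Subgroup G) :=
      ![1, ⟨z, hzR⟩, ⟨z1, hz1R⟩, ⟨z * z1, mul_mem hzR hz1R⟩]
    have hz11 : z1 ≠ 1 := fun e => hz1P (e ▸ one_mem _)
    have hzz1 : z ≠ z1 := fun e => hz1P (e ▸ hz)
    have hf : Function.Injective f := by
      intro i j h
      have h' := congrArg Subtype.val h
      fin_cases i <;> fin_cases j <;> first
        | rfl
        | (exfalso; simp [f] at h'; first
          | exact hz1' h'
          | exact hz1' h'.symm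
          | exact hz11 h'
          | exact hz11 h'.symm
          | exact hzz1 h'
          | exact hzz1 h'.symm
          | exact hzz1 ((inv_eq_of_mul_eq_one_right hzsq).symm.trans
              (inv_eq_of_mul_eq_one_right h'))
          | exact hzz1 ((inv_eq_of_mul_eq_one_right hzsq).symm.trans
              (inv_eq_of_mul_eq_one_right h'.symm)))
    simpa using Nat.card_le_card_of_injective f hf
  have hT4 : ∀ T : Sylow 2 G, Nat.card (T : Subgroup G) = 4 := fun T => by
    rw [← hRcard]; exact Nat.card_congr (T.equiv R).toEquiv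
  refine ⟨hZ0z, hT4, ?_, z1, hz1o, S.commute_of_mem hRnd hz1R hzR, hz1P⟩
  intro t ht
  have ht1 : t ≠ 1 := fun e => by rw [e, orderOf_one] at ht; omega
  obtain ⟨T, hT⟩ := (isPGroup_zpowers (p := 2) (a := t)
    ⟨1, by rw [pow_one, ← ht, pow_orderOf_eq_one]⟩).exists_le_sylow
  obtain ⟨g, hg⟩ := MulAction.exists_smul_eq G R T
  obtain ⟨x, hx, hxt⟩ : t ∈ (g • R : Sylow 2 G) := hg.symm ▸ hT (mem_zpowers t)
  change g * x * g⁻¹ = t at hxt
  have hx1 : x ≠ 1 := fun e => ht1 (by rw [← hxt, e, mul_one, mul_inv_cancel])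
  suffices ∃ i : Fin 3, y ^ i.1 * z * (y ^ i.1)⁻¹ = x by
    obtain ⟨i, hi⟩ := this
    exact ⟨g * y ^ i.1, by rw [← hxt, ← hi]; group⟩
  by_contra hc
  push Not at hc
  let f : Option (Option (Fin 3)) → (R : Subgroup G) := fun o =>
    o.elim 1 fun o' => o'.elim ⟨x, hx⟩ fun i => ⟨_, hyR i.1⟩
  have hf : Function.Injective f := by
    have hne : ∀ i : Fin 3, y ^ i.1 * z * (y ^ i.1)⁻¹ ≠ 1 := fun i e =>
      hz1' (conj_eq_one_iff.mp e)
    rintro (_ | _ | i) (_ | _ | j) h <;> have h' := congrArg Subtype.val h <;>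
      first
      | rfl
      | exact absurd h' hx1
      | exact absurd h'.symm hx1
      | exact absurd h' (hne _)
      | exact absurd h'.symm (hne _)
      | exact absurd h' (hc _)
      | exact absurd h'.symm (hc _)
      | skip
    have key : ∀ i j : ℕ, i ≤ j → j < 3 →
        y ^ i * z * (y ^ i)⁻¹ = y ^ j * z * (y ^ j)⁻¹ → i = j := by
      intro i j hle hj he
      by_contra hne'
      obtain ⟨d, rfl⟩ := Nat.exists_eq_add_of_le hle
      refine hdisj d (by omega) (by omega) z hz hzA hz1' ?_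
      rw [pow_add] at he
      have : y ^ d * z * (y ^ d)⁻¹ = z := by
        calc y ^ d * z * (y ^ d)⁻¹ = (y ^ i)⁻¹ * (y ^ i * y ^ d * z * (y ^ i * y ^ d)⁻¹) * y ^ i := by
              group
          _ = z := by rw [← he]; group
      rwa [this]
    rw [Fin.ext ((le_total i.1 j.1).elim (fun hl => key _ _ hl j.2 h')
      (fun hl => (key _ _ hl i.2 h'.symm).symm))]
  have := Nat.card_le_card_of_injective f hf
  rw [hRcard] at this
  simp at this

/-- The case `C(P) ⊈ P` is impossible. -/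
theorem false_of_central (P : Sylow p G) {g : G}
    (hg : g ∈ centralizer ((P : Subgroup G) : Set G)) (hgP : g ∉ (P : Subgroup G)) : False := by
  classical
  haveI : Fintype G := Fintype.ofFinite G
  haveI : Fact (2 : ℕ).Prime := ⟨Nat.prime_two⟩
  obtain ⟨a, b, rfl, ha, hb, haz, hbz⟩ := exists_parts (p := p) g
  have hb1 : b ≠ 1 := by
    rintro rfl
    rw [mul_one] at hgP hg
    exact hgP (mem_sylow_of_normalizer P (centralizer_le_normalizer _ hg) ha)
  obtain ⟨r, hr, hrd⟩ := Nat.exists_prime_and_dvd (mt orderOf_eq_one_iff.mp hb1)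
  obtain ⟨m, hm⟩ := hrd
  set z := b ^ m with hzdef
  have hm0 : m ≠ 0 := by
    rintro rfl
    exact (orderOf_pos b).ne' (by rw [hm, mul_zero])
  have hzo : orderOf z = r := by
    rw [hzdef, orderOf_pow_of_dvd hm0 ⟨r, by rw [hm, mul_comm]⟩, hm,
      Nat.mul_div_cancel _ (Nat.pos_of_ne_zero hm0)]
  have hrp : r ≠ p := by
    rintro rfl
    exact hr.ne_one ((Nat.coprime_self r).mp (hb.coprime_dvd_left ⟨m, hm⟩))
  have hzC : z ∈ centralizer ((P : Subgroup G) : Set G) := pow_mem (zpowers_le.mpr hg hbz) m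
  obtain ⟨hp3, hr2, hZ, hT, hconj, z1, hz1o, hz1z, hz1P⟩ :=
    S.structure_of_central P hr hrp hzC hzo
  subst hp3 hr2
  have hsq : ∀ {s : G}, orderOf s = 2 → s * s = 1 := fun {s} hs => by
    rw [← pow_two, ← hs, pow_orderOf_eq_one]
  have hne1 : ∀ {s : G}, orderOf s = 2 → s ≠ 1 := fun {s} hs e => by
    rw [e, orderOf_one] at hs; omega
  have hinv : ∀ {s : G}, orderOf s = 2 → s⁻¹ = s := fun {s} hs =>
    inv_eq_of_mul_eq_one_right (hsq hs)
  have hcop2 : ∀ {s : G}, s * s = 1 → (orderOf s).Coprime 3 := fun {s} hs =>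
    (by norm_num : Nat.Coprime 2 3).coprime_dvd_left
      (orderOf_dvd_of_pow_eq_one (by rw [pow_two, hs]))
  have hz2 : orderOf z = 2 := hzo
  -- the unique involution centralising a nontrivial `3`-element
  have hF : ∀ v : G, v ≠ 1 → (∃ k, v ^ 3 ^ k = 1) → ∃ c : G, orderOf c = 2 ∧ c * v = v * c ∧
      ∀ x : G, orderOf x = 2 → x * v = v * x → x = c := by
    intro v hv1 hv
    obtain ⟨Q, hQ⟩ := (isPGroup_zpowers hv).exists_le_sylow
    obtain ⟨h, hh⟩ := MulAction.exists_smul_eq G P Q
    obtain ⟨v', hv', hvv⟩ : v ∈ (h • P : Sylow 3 G) := hh.symm ▸ hQ (mem_zpowers v)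
    change h * v' * h⁻¹ = v at hvv
    subst hvv
    refine ⟨h * z * h⁻¹, (conj_orderOf h z).trans hz2,
      (conj_commute_iff h z v').mpr (mem_centralizer_iff.mp hzC v' hv').symm, fun x hx hxv => ?_⟩
    have hx' : orderOf (h⁻¹ * x * h) = 2 := by
      rw [← hx]; simpa using conj_orderOf h⁻¹ x
    have hc : h⁻¹ * x * h * v' = v' * (h⁻¹ * x * h) := by
      rw [← conj_commute_iff h]
      simpa [mul_assoc] using hxv
    rcases hZ _ (S.mem_centralizer_sylow_of_commute P hv'
      (fun e => hv1 (by rw [e, mul_one, mul_inv_cancel])) hc) (hcop2 (hsq hx')) with e | e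
    · exact absurd e (hne1 hx')
    · rw [← e]; group
  -- three commuting involutions
  have hthree : ∀ s t c : G, orderOf s = 2 → orderOf t = 2 → orderOf c = 2 → s ≠ t → c ≠ s →
      c ≠ t → s * t = t * s → s * c = c * s → t * c = c * t → c = s * t := by
    intro s t c hs ht hc hst hcs hct h1 h2 h3
    by_contra hne
    set K := closure ({s, t, c} : Set G) with hK
    have hmem : s ∈ K ∧ t ∈ K ∧ c ∈ K :=
      ⟨subset_closure (by simp), subset_closure (by simp), subset_closure (by simp)⟩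
    have hKc : IsMulCommutative K := Subgroup.isMulCommutative_closure (by
      simp only [Set.mem_insert_iff, Set.mem_singleton_iff]
      rintro a (rfl | rfl | rfl) b (rfl | rfl | rfl) <;>
        first | rfl | assumption | exact h1.symm | exact h2.symm | exact h3.symm)
    have hK2 : IsPGroup 2 K := by
      rintro ⟨x, hx⟩
      refine ⟨1, Subtype.ext ?_⟩
      change x ^ 2 ^ 1 = 1
      rw [pow_one]
      induction hx using closure_induction with
      | mem a ha =>
        simp only [Set.mem_insert_iff, Set.mem_singleton_iff] at ha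
        rw [pow_two]
        rcases ha with rfl | rfl | rfl
        exacts [hsq hs, hsq ht, hsq hc]
      | one => exact one_pow 2
      | mul a b ha hb iha ihb =>
        rw [(show Commute a b from congrArg Subtype.val
          (hKc.is_comm.comm (⟨a, ha⟩ : K) ⟨b, hb⟩)).mul_pow, iha, ihb, one_mul]
      | inv a _ iha => rw [inv_pow, iha, inv_one]
    obtain ⟨T, hKT⟩ := hK2.exists_le_sylow
    let f : Fin 5 → (T : Subgroup G) := ![1, ⟨s, hKT hmem.1⟩, ⟨t, hKT hmem.2.1⟩,
      ⟨c, hKT hmem.2.2⟩, ⟨s * t, hKT (mul_mem hmem.1 hmem.2.1)⟩]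
    have hf : Function.Injective f := by
      intro i j h
      have h' := congrArg Subtype.val h
      fin_cases i <;> fin_cases j <;> first
        | rfl
        | (exfalso; simp [f] at h'; first
          | exact hne1 hs h'
          | exact hne1 hs h'.symm
          | exact hne1 ht h'
          | exact hne1 ht h'.symm
          | exact hne1 hc h'
          | exact hne1 hc h'.symm
          | exact hst h'
          | exact hst h'.symm
          | exact hcs h'
          | exact hcs h'.symm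
          | exact hct h'
          | exact hct h'.symm
          | exact hne h'
          | exact hne h'.symm
          | exact hst ((hinv hs).symm.trans (inv_eq_of_mul_eq_one_right h'))
          | exact hst ((hinv hs).symm.trans (inv_eq_of_mul_eq_one_right h'.symm)))
    have := Nat.card_le_card_of_injective f hf
    rw [hT T] at this
    simp at this
  -- the commuting graph on involutions
  let Inv := {x : G // orderOf x = 2}
  let adj : Inv → Inv → Prop := fun s t => s ≠ t ∧ s.1 * t.1 = t.1 * s.1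
  let nb : Inv → Finset Inv := fun s => Finset.univ.filter (adj s)
  have hdeg : ∀ s : Inv, (nb s).card = (nb ⟨z, hz2⟩).card := by
    intro s
    obtain ⟨h, hh⟩ := hconj s.1 s.2
    let e : Inv ≃ Inv := Equiv.subtypeEquiv (MulAut.conj h).toEquiv
      (fun x => by rw [show (MulAut.conj h).toEquiv x = MulAut.conj h x from rfl, MulEquiv.orderOf_eq])
    have he : e ⟨z, hz2⟩ = s := Subtype.ext hh
    symm
    refine Finset.card_equiv e fun x => ?_
    simp only [nb, Finset.mem_filter, Finset.mem_univ, true_and, adj]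
    rw [← he]
    refine and_congr e.injective.ne_iff.symm ?_
    exact (conj_commute_iff h z x.1).symm
  have hk : 3 ≤ (nb ⟨z, hz2⟩).card := by
    obtain ⟨u, huP, hu1⟩ :=
      (Subgroup.bot_or_exists_ne_one (P : Subgroup G)).resolve_left (S.sylow_ne_bot P)
    have hzz1 : z ≠ z1 := fun e => hz1P (e ▸ hzC)
    have hz1N : z1 ∈ normalizer ((P : Subgroup G) : Set G) :=
      (S.centralizer_eq_normalizer P hzC (hcop2 (hsq hz2)) (hne1 hz2)).le
        (mem_centralizer_singleton_iff.mpr hz1z)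
    have huz : u * z = z * u := (mem_centralizer_iff.mp hzC u huP)
    have hn2 : orderOf (z * z1) = 2 := by
      refine orderOf_eq_prime ?_ fun e => ?_
      · rw [pow_two, show z * z1 * (z * z1) = z * (z1 * z) * z1 by group, hz1z,
          show z * (z * z1) * z1 = (z * z) * (z1 * z1) by group, hsq hz2, hsq hz1o, one_mul]
      · exact hzz1 ((hinv hz2).symm.trans (inv_eq_of_mul_eq_one_right e))
    have h3 : u * z1 * u⁻¹ ≠ z1 := fun e =>
      hz1P (S.mem_centralizer_sylow_of_commute P huP hu1 (mul_inv_eq_iff_eq_mul.mp e).symm)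
    have h4 : u * z1 * u⁻¹ ≠ z * z1 := by
      intro e
      have hP : u * (z1 * u⁻¹ * z1⁻¹) ∈ (P : Subgroup G) :=
        mul_mem huP ((mem_normalizer_iff.mp hz1N u⁻¹).mp (inv_mem huP))
      rw [show u * (z1 * u⁻¹ * z1⁻¹) = u * z1 * u⁻¹ * z1⁻¹ by group, e,
        mul_inv_cancel_right] at hP
      exact hne1 hz2 (eq_one_of_pow_of_coprime (mem_pow_eq_one P.2 hP) (hcop2 (hsq hz2)))
    have hsub : ({⟨z1, hz1o⟩, ⟨z * z1, hn2⟩,
        ⟨u * z1 * u⁻¹, (conj_orderOf u z1).trans hz1o⟩} : Finset Inv) ⊆ nb ⟨z, hz2⟩ := by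
      intro x hx
      simp only [Finset.mem_insert, Finset.mem_singleton] at hx
      simp only [nb, Finset.mem_filter, Finset.mem_univ, true_and, adj]
      rw [Ne, Subtype.ext_iff]
      rcases hx with rfl | rfl | rfl
      · exact ⟨hzz1, hz1z.symm⟩
      · refine ⟨fun e => hne1 hz1o (left_eq_mul.mp e), ?_⟩
        change z * (z * z1) = z * z1 * z
        rw [mul_assoc z z1 z, hz1z]
      · refine ⟨fun e => hzz1 ?_, ?_⟩
        · calc z = u⁻¹ * (u * z) := by group
            _ = u⁻¹ * (z * u) := by rw [huz]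
            _ = u⁻¹ * (u * z1 * u⁻¹ * u) := by
              rw [← (show z = u * z1 * u⁻¹ from e)]
            _ = z1 := by group
        · have huz' : u⁻¹ * z = z * u⁻¹ := (Commute.inv_left huz).eq
          calc z * (u * z1 * u⁻¹) = (z * u) * z1 * u⁻¹ := by group
            _ = u * (z * z1) * u⁻¹ := by rw [← huz]; group
            _ = u * z1 * (z * u⁻¹) := by rw [← hz1z]; group
            _ = u * z1 * u⁻¹ * z := by rw [← huz']; group
    refine le_trans (le_of_eq ?_) (Finset.card_le_card hsub)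
    rw [Finset.card_insert_of_notMem, Finset.card_pair]
    · intro e; exact h4 (congrArg Subtype.val e).symm
    · simp only [Finset.mem_insert, Finset.mem_singleton, Subtype.ext_iff, not_or]
      exact ⟨fun e => hne1 hz2 (right_eq_mul.mp (congrArg Subtype.val e)),
        fun e => h3 (congrArg Subtype.val e).symm⟩
  refine no_regular_friendship adj (fun s t h => ⟨h.1.symm, h.2.symm⟩) (fun s h => h.1 rfl)
    ⟨z, hz2⟩ _ hk hdeg ?_
  intro s t hst
  rw [Finset.card_eq_one]
  by_cases hcomm : s.1 * t.1 = t.1 * s.1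
  · have hne : s.1 ≠ t.1 := fun e => hst (Subtype.ext e)
    have hst1 : s.1 * t.1 ≠ 1 := fun e =>
      hne ((hinv s.2).symm.trans (inv_eq_of_mul_eq_one_right e))
    have hord : orderOf (s.1 * t.1) = 2 := orderOf_eq_prime
      (by rw [(show Commute s.1 t.1 from hcomm).mul_pow, pow_two, pow_two, hsq s.2, hsq t.2,
        one_mul]) hst1
    refine ⟨⟨s.1 * t.1, hord⟩, Finset.ext fun x => ?_⟩
    simp only [Finset.mem_filter, Finset.mem_univ, true_and, Finset.mem_singleton, adj]
    constructor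
    · rintro ⟨⟨h1, h2⟩, h3, h4⟩
      exact Subtype.ext (hthree _ _ _ s.2 t.2 x.2 hne (fun e => h1 (Subtype.ext e.symm))
        (fun e => h3 (Subtype.ext e)) hcomm h2 h4.symm)
    · rintro rfl
      refine ⟨⟨fun e => hne1 t.2 (left_eq_mul.mp (congrArg Subtype.val e)), ?_⟩,
        fun e => hne1 s.2 (mul_eq_right.mp (congrArg Subtype.val e)), ?_⟩
      · change s.1 * (s.1 * t.1) = s.1 * t.1 * s.1
        rw [mul_assoc s.1 t.1, ← hcomm]
      · change s.1 * t.1 * t.1 = t.1 * (s.1 * t.1)
        rw [← mul_assoc t.1, ← hcomm]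
  · -- a nonidentity `3`-part of `t * s`
    obtain ⟨v, w, hvw, hv, hw, hvz, hwz⟩ := exists_parts (p := 3) (t.1 * s.1)
    have hts : s.1 * (t.1 * s.1) * s.1⁻¹ = (t.1 * s.1)⁻¹ := by
      rw [mul_inv_rev, hinv s.2, hinv t.2, mul_assoc, mul_assoc, hsq s.2, mul_one]
    have htt : t.1 * (t.1 * s.1) * t.1⁻¹ = (t.1 * s.1)⁻¹ := by
      rw [mul_inv_rev, hinv t.2, hinv s.2, ← mul_assoc, hsq t.2, one_mul]
    have hcinv : ∀ q : G, q * (t.1 * s.1) * q⁻¹ = (t.1 * s.1)⁻¹ →
        ∀ x ∈ zpowers (t.1 * s.1), q * x * q⁻¹ = x⁻¹ := by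
      intro q hq x hx
      obtain ⟨i, rfl⟩ := mem_zpowers_iff.mp hx
      rw [conj_zpow_eq, hq, inv_zpow]
    have hw2 : w⁻¹ = w := by
      have hsN : zpowers s.1 ≤ normalizer (zpowers w : Set G) := by
        refine zpowers_le.mpr ?_
        rw [mem_normalizer_iff]
        have key : ∀ x ∈ zpowers w, s.1 * x * s.1⁻¹ ∈ zpowers w := fun x hx => by
          rw [hcinv _ hts x (zpowers_le.mpr hwz hx)]; exact inv_mem hx
        refine fun x => ⟨key x, fun hx => ?_⟩
        have := key _ hx
        rw [hinv s.2] at this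
        simpa [mul_assoc, hsq s.2, ← mul_assoc s.1 s.1] using this
      have hK := not_dvd_card_sup hsN (not_dvd_card_zpowers hw)
        (not_dvd_card_zpowers (hcop2 (hsq s.2)))
      rw [← hcinv _ hts w hwz,
        S.commute_of_mem hK (mem_sup_right (mem_zpowers s.1)) (mem_sup_left (mem_zpowers w)),
        mul_inv_cancel_right]
    have hv1 : v ≠ 1 := by
      rintro rfl
      rw [one_mul] at hvw
      apply hcomm
      rw [← hinv s.2, ← hinv t.2, ← mul_inv_rev, ← hvw, hw2, hvw, hinv s.2, hinv t.2]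
    obtain ⟨c, hc, hcv, huniq⟩ := hF v hv1 hv
    have hcom : ∀ q : G, orderOf q = 2 → q * (t.1 * s.1) * q⁻¹ = (t.1 * s.1)⁻¹ →
        q ≠ c ∧ q * c = c * q := by
      intro q hq hqi
      have hqv := hcinv q hqi v hvz
      have h1 : q * c * q⁻¹ = c := by
        refine huniq _ ((conj_orderOf q c).trans hc) ?_
        have h2 := (conj_commute_iff q c v⁻¹).mpr (Commute.inv_right hcv).eq
        rw [show q * v⁻¹ * q⁻¹ = (q * v * q⁻¹)⁻¹ by group, hqv, inv_inv] at h2
        exact h2
      refine ⟨?_, mul_inv_eq_iff_eq_mul.mp h1⟩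
      rintro rfl
      rw [hcv, mul_inv_cancel_right] at hqv
      exact hv1 (eq_one_of_pow_of_coprime hv
        (hcop2 (by nth_rw 1 [hqv]; exact inv_mul_cancel v)))
    obtain ⟨hs1, hs2⟩ := hcom _ s.2 hts
    obtain ⟨ht1, ht2⟩ := hcom _ t.2 htt
    refine ⟨⟨c, hc⟩, Finset.ext fun x => ?_⟩
    simp only [Finset.mem_filter, Finset.mem_univ, true_and, Finset.mem_singleton, adj]
    constructor
    · rintro ⟨⟨-, h2⟩, -, h4⟩
      refine Subtype.ext (huniq x.1 x.2 ?_)
      have h5 : Commute x.1 (t.1 * s.1) :=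
        Commute.mul_right (show Commute x.1 t.1 from h4) (show Commute x.1 s.1 from h2.symm)
      obtain ⟨i, hi⟩ := mem_zpowers_iff.mp hvz
      rw [← hi]
      exact h5.zpow_right i
    · rintro rfl
      exact ⟨⟨fun e => hs1 (congrArg Subtype.val e), hs2⟩,
        fun e => ht1 (congrArg Subtype.val e).symm, ht2.symm⟩

end Setup

end Cfsg.Agent.Lib.CyclicSylow90
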