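import Cfsg.Agent.Lib.CyclicSylow90.Count
import Cfsg.Agent.Lib.CyclicSylow90.Friendship

/-!
Cyclic Sylow `p`-subgroup and abelian `p'`-subgroups: normal complement or normal Sylow subgroup.
-/

set_option autoImplicit false
set_option linter.style.haveILetI false

namespace Cfsg.Agent.Lib.CyclicSylow90

open Subgroup

universe u

variable {p : ℕ} [hp : Fact p.Prime]

theorem isCyclic_of_isPGroup {G : Type u} [Group G] [Finite G] (P : Sylow p G) (hcyc : IsCyclic P)
    {Q : Subgroup G} (hQ : IsPGroup p Q) : IsCyclic Q := by
  obtain ⟨R, hR⟩ := hQ.exists_le_sylow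
  haveI : IsCyclic (R : Subgroup G) :=
    isCyclic_of_surjective (P.equiv R).toMonoidHom (P.equiv R).surjective
  exact isCyclic_of_injective (Subgroup.inclusion hR) (inclusion_injective hR)

/-- Complements of a normal Sylow subgroup in a subgroup. -/
theorem exists_complement_in {G : Type u} [Group G] [Finite G] {Q H : Subgroup G} (hQH : Q ≤ H)
    (hn : (Q.subgroupOf H).Normal) (hcop : (Nat.card Q).Coprime (Q.relIndex H)) :
    ∃ K : Subgroup G, K ≤ H ∧ Nat.card K = Q.relIndex H ∧ Q ⊔ K = H := by
  haveI := hn
  obtain ⟨K, hK⟩ := exists_right_complement'_of_coprime (N := Q.subgroupOf H)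
    (by rw [Nat.card_congr (subgroupOfEquivOfLe hQH).toEquiv]; exact hcop)
  refine ⟨K.map H.subtype, map_subtype_le _, ?_, ?_⟩
  · rw [card_map_of_injective H.subtype_injective]
    exact hK.symm.index_eq_card.symm
  · conv_lhs => rw [← map_subgroupOf_eq_of_le hQH]
    rw [← Subgroup.map_sup, hK.sup_eq_top, ← MonoidHom.range_eq_map, H.range_subtype]

theorem conclusion (n : ℕ) : ∀ (G : Type u) [Group G] [Finite G], Nat.card G = n →
    ∀ (P : Sylow p G), IsCyclic P →
      (∀ H : Subgroup G, ¬ p ∣ Nat.card H → IsMulCommutative H) →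
      Cfsg.HasNormalPComplement p G ∨ (P : Subgroup G).Normal := by
  induction n using Nat.strong_induction_on with
  | _ n ih =>
  intro G _ _ hn P hcyc hab
  subst hn
  by_cases hpG : p ∣ Nat.card G
  swap
  · exact Or.inl (Transfer.hasNormalPComplement_of_not_dvd hpG)
  have hcomm : ∀ a ∈ (P : Subgroup G), ∀ b ∈ (P : Subgroup G), a * b = b * a := fun a ha b hb =>
    haveI := hcyc
    haveI := IsCyclic.isMulCommutative (α := (P : Subgroup G))
    congrArg Subtype.val (mul_comm' (⟨a, ha⟩ : (P : Subgroup G)) ⟨b, hb⟩)
  -- the inductive hypothesis for proper subgroups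
  have hsub : ∀ H : Subgroup G, H ≠ ⊤ → ∀ Q : Sylow p H,
      Cfsg.HasNormalPComplement p H ∨ (Q : Subgroup H).Normal := by
    intro H hH Q
    refine ih _ ?_ H rfl Q ?_ fun K hK => ?_
    · exact lt_of_le_of_ne (card_le_card_group H) fun e => hH (eq_top_of_card_eq H e)
    · haveI := isCyclic_of_isPGroup P hcyc (Q.2.map H.subtype)
      exact isCyclic_of_surjective (equivMapOfInjective _ _ H.subtype_injective).symm.toMonoidHom
        (MulEquiv.surjective _)
    · haveI := hab (K.map H.subtype) (by rwa [card_map_of_injective H.subtype_injective])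
      exact ⟨⟨fun a b => (equivMapOfInjective K _ H.subtype_injective).injective
        (by rw [map_mul, map_mul, mul_comm'])⟩⟩
  -- a nontrivial normal `p'`-subgroup
  by_cases hN : ∃ N : Subgroup G, N.Normal ∧ N ≠ ⊥ ∧ ¬ p ∣ Nat.card N
  · obtain ⟨N, hNn, hN1, hNp⟩ := hN
    haveI := hNn
    have hlt : Nat.card (G ⧸ N) < Nat.card G := by
      rw [card_eq_card_quotient_mul_card_subgroup N]
      exact lt_mul_right Nat.card_pos ((one_lt_card_iff_ne_bot N).mpr hN1)
    let π := QuotientGroup.mk' N
    let P' : Sylow p (G ⧸ N) := P.mapSurjective (QuotientGroup.mk'_surjective N)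
    have hP' : (P' : Subgroup (G ⧸ N)) = (P : Subgroup G).map π := rfl
    have hcyc' : IsCyclic P' := by
      haveI := hcyc
      exact isCyclic_of_surjective (π.subgroupMap (P : Subgroup G))
        (π.subgroupMap_surjective _)
    have hab' : ∀ H : Subgroup (G ⧸ N), ¬ p ∣ Nat.card H → IsMulCommutative H := by
      intro H hH
      haveI := hab (H.comap π) (by
        intro hd
        obtain ⟨⟨x, hx⟩, hxo⟩ := exists_prime_orderOf_dvd_card' p hd
        rw [Subgroup.orderOf_mk] at hxo
        have h1 : orderOf (π x) ∣ p := hxo ▸ orderOf_map_dvd π x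
        rcases (Nat.dvd_prime hp.out).mp h1 with h | h
        · rw [orderOf_eq_one_iff, ← MonoidHom.mem_ker, QuotientGroup.ker_mk'] at h
          exact hNp (hxo ▸ N.orderOf_dvd_natCard h)
        · exact hH (h ▸ H.orderOf_dvd_natCard hx))
      refine ⟨⟨fun a b => ?_⟩⟩
      obtain ⟨x, hx⟩ := QuotientGroup.mk'_surjective N a.1
      obtain ⟨y, hy⟩ := QuotientGroup.mk'_surjective N b.1
      have := congrArg (fun t : (H.comap π) => π t.1) (mul_comm'
        (⟨x, show π x ∈ H from hx ▸ a.2⟩ : H.comap π) ⟨y, show π y ∈ H from hy ▸ b.2⟩)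
      refine Subtype.ext ?_
      simp only [Subgroup.coe_mul, map_mul] at this
      rw [show π x = a.1 from hx, show π y = b.1 from hy] at this
      exact this
    rcases ih _ hlt (G ⧸ N) rfl P' hcyc' hab' with h | h
    · -- pull back the complement
      refine Or.inl ?_
      set R := Cfsg.pResidual p (G ⧸ N) with hR
      haveI : R.Normal := Transfer.pResidual_normal
      have hRp := Transfer.hasNormalPComplement_iff.mp h
      refine Transfer.hasNormalPComplement_of_isPGroup_quotient (R.comap π) ?_ ?_
      · intro hd
        obtain ⟨⟨x, hx⟩, hxo⟩ := exists_prime_orderOf_dvd_card' p hd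
        rw [Subgroup.orderOf_mk] at hxo
        rcases (Nat.dvd_prime hp.out).mp (hxo ▸ orderOf_map_dvd π x) with h' | h'
        · rw [orderOf_eq_one_iff, ← MonoidHom.mem_ker, QuotientGroup.ker_mk'] at h'
          exact hNp (hxo ▸ N.orderOf_dvd_natCard h')
        · exact hRp (h'.symm.dvd.trans (R.orderOf_dvd_natCard hx))
      · intro a
        obtain ⟨x, rfl⟩ := QuotientGroup.mk_surjective a
        obtain ⟨k, hk⟩ := Transfer.isPGroup_quotient_pResidual (G := G ⧸ N) (p := p)
          (QuotientGroup.mk (π x))
        refine ⟨k, ?_⟩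
        rw [← QuotientGroup.mk_pow, QuotientGroup.eq_one_iff] at hk ⊢
        rwa [mem_comap, map_pow]
    · -- `N P` is normal
      have hM : (N ⊔ (P : Subgroup G)).Normal := by
        have h1 : ((P' : Subgroup (G ⧸ N)).comap π).Normal := h.comap π
        rwa [hP', comap_map_eq, QuotientGroup.ker_mk', sup_comm] at h1
      haveI := hM
      set H := normalizer ((P : Subgroup G) : Set G) with hH
      have hfr : H ⊔ (N ⊔ (P : Subgroup G)) = ⊤ := by
        have := Sylow.normalizer_sup_eq_top' P (N := N ⊔ (P : Subgroup G)) le_sup_right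
        exact this
      by_cases hb : H ≤ centralizer ((P : Subgroup G) : Set G)
      · exact Or.inl (Transfer.hasNormalPComplement_of_normalizer_le_centralizer P hb)
      right
      obtain ⟨C, hCH, hCcard, hCsup⟩ := exists_complement_in (Q := (P : Subgroup G)) (H := H)
        le_normalizer normal_in_normalizer (by
          obtain ⟨k, hk⟩ := IsPGroup.iff_card.mp P.2
          rw [hk]
          refine Nat.Coprime.pow_left k (hp.out.coprime_iff_not_dvd.mpr ?_)
          exact fun hd => P.not_dvd_index (hd.trans (relIndex_dvd_index_of_le le_normalizer)))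
      have hCnd : ¬ p ∣ Nat.card C := by
        rw [hCcard]
        exact fun hd => P.not_dvd_index (hd.trans (relIndex_dvd_index_of_le le_normalizer))
      obtain ⟨c, hc, hcc⟩ : ∃ c ∈ C, c ∉ centralizer ((P : Subgroup G) : Set G) := by
        by_contra hall
        push Not at hall
        exact hb (hCsup ▸ sup_le (fun x hx => mem_centralizer_iff.mpr fun y hy => hcomm y hy x hx)
          hall)
      have hNC := not_dvd_card_sup (X := N) (Y := C) (by
        rw [normalizer_eq_top]; exact le_top) hNp hCnd
      haveI := hab _ hNC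
      have hcn : ∀ n' ∈ N, c * n' = n' * c := fun n' hn' => congrArg Subtype.val
        (mul_comm' (⟨c, mem_sup_right hc⟩ : ↥(N ⊔ C)) ⟨n', mem_sup_left hn'⟩)
      -- `P = [P, c]` centralises `N`
      have hPN : ∀ x ∈ (P : Subgroup G), ∀ n' ∈ N, x * n' = n' * x := by
        intro x hx n' hn'
        obtain ⟨b, hb', rfl⟩ := exists_commutator_eq P.2 hcyc (hCH hc)
          (coprime_orderOf_of_mem hCnd hc) hcc x hx
        have h1 : c * b * c⁻¹ * n' = n' * (c * b * c⁻¹) ↔ b * n' = n' * b := by
          have hcn' := hcn n' hn'
          constructor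
          · intro e
            calc b * n' = c⁻¹ * ((c * b * c⁻¹) * (c * n' * c⁻¹)) * c := by group
              _ = c⁻¹ * ((c * b * c⁻¹) * n') * c := by rw [hcn', mul_inv_cancel_right]
              _ = c⁻¹ * (n' * (c * b * c⁻¹)) * c := by rw [e]
              _ = c⁻¹ * ((c * n' * c⁻¹) * (c * b * c⁻¹)) * c := by
                rw [hcn', mul_inv_cancel_right]
              _ = n' * b := by group
          · intro e
            calc c * b * c⁻¹ * n' = c * b * c⁻¹ * (c * n' * c⁻¹) := by
                  rw [hcn', mul_inv_cancel_right]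
              _ = c * (b * n') * c⁻¹ := by group
              _ = c * (n' * b) * c⁻¹ := by rw [e]
              _ = (c * n' * c⁻¹) * (c * b * c⁻¹) := by group
              _ = n' * (c * b * c⁻¹) := by rw [hcn', mul_inv_cancel_right]
        -- apply `h1` to `b n' b⁻¹`
        have hn'' : b * n' * b⁻¹ ∈ N := hNn.conj_mem n' hn' b
        have hcn'' := hcn _ hn''
        calc b⁻¹ * (c * b * c⁻¹) * n'
            = b⁻¹ * (c * b * (c⁻¹ * (n' * c)) * c⁻¹) := by group
          _ = b⁻¹ * (c * b * (c⁻¹ * (c * n')) * c⁻¹) := by rw [hcn n' hn']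
          _ = b⁻¹ * (c * (b * n' * b⁻¹)) * (b * c⁻¹) := by group
          _ = b⁻¹ * ((b * n' * b⁻¹) * c) * (b * c⁻¹) := by rw [hcn'']
          _ = n' * (b⁻¹ * (c * b * c⁻¹)) := by group
      rw [← normalizer_eq_top_iff, eq_top_iff, ← hfr]
      refine sup_le le_rfl (sup_le ?_ le_normalizer)
      intro n' hn'
      rw [mem_normalizer_iff]
      refine fun x => ⟨fun hx => ?_, fun hx => ?_⟩
      · rwa [← hPN x hx n' hn', mul_inv_cancel_right]
      · have h2 := hPN _ hx n' hn'
        rw [inv_mul_cancel_right] at h2
        exact mul_left_cancel h2 ▸ hx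
  push Not at hN
  -- a proper nontrivial normal subgroup
  by_cases hM : ∃ M : Subgroup G, M.Normal ∧ M ≠ ⊥ ∧ M ≠ ⊤
  · obtain ⟨M, hMn, hM1, hM2⟩ := hM
    haveI := hMn
    have hkill : ∀ K : Subgroup M, K.Characteristic → ¬ p ∣ Nat.card K → K = ⊥ := by
      intro K hK hKp
      by_contra hK1
      haveI := hK
      refine (?_ : ¬ p ∣ Nat.card (K.map M.subtype)) (hN (K.map M.subtype) inferInstance ?_)
      · rwa [card_map_of_injective M.subtype_injective]
      · rwa [Ne, map_eq_bot_iff_of_injective _ M.subtype_injective]
    obtain ⟨PM⟩ := (inferInstance : Nonempty (Sylow p M))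
    -- a nontrivial normal `p`-subgroup
    obtain ⟨Q, hQn, hQp, hQ1⟩ : ∃ Q : Subgroup G, Q.Normal ∧ IsPGroup p Q ∧ Q ≠ ⊥ := by
      rcases hsub M hM2 PM with h | h
      · have hp' := Transfer.hasNormalPComplement_iff.mp h
        refine ⟨M, hMn, ?_, hM1⟩
        have hbot := hkill _ ?_ hp'
        · have hq := Transfer.isPGroup_quotient_pResidual (G := M) (p := p)
          intro x
          obtain ⟨k, hk⟩ := hq (QuotientGroup.mk x)
          refine ⟨k, ?_⟩
          rw [← QuotientGroup.mk_pow, QuotientGroup.eq_one_iff, hbot, mem_bot] at hk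
          exact hk
        · refine characteristic_iff_map_le.mpr fun e => ?_
          exact Transfer.map_pResidual_le e.toMonoidHom
      · haveI := Sylow.characteristic_of_normal PM h
        refine ⟨(PM : Subgroup M).map M.subtype, inferInstance, PM.2.map _, ?_⟩
        rw [Ne, map_eq_bot_iff_of_injective _ M.subtype_injective]
        intro e
        refine hM1 ?_
        have hMp : ¬ p ∣ Nat.card M := fun hd => PM.ne_bot_of_dvd_card hd e
        by_contra h1
        exact hMp (hN M hMn h1)
    haveI := hQn
    have hQP : Q ≤ (P : Subgroup G) := by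
      have hsup := hQp.to_sup_of_normal_left' P.2 (by rw [normalizer_eq_top]; exact le_top)
      exact P.is_maximal' hsup le_sup_right ▸ le_sup_left
    set C := centralizer (Q : Set G) with hC
    haveI hCn : C.Normal := inferInstance
    have hPC : (P : Subgroup G) ≤ C := fun x hx =>
      mem_centralizer_iff.mpr fun y hy => hcomm y (hQP hy) x hx
    by_cases hCt : C = ⊤
    · -- `Q` is central
      have hlt : Nat.card (G ⧸ Q) < Nat.card G := by
        rw [card_eq_card_quotient_mul_card_subgroup Q]
        exact lt_mul_right Nat.card_pos ((one_lt_card_iff_ne_bot Q).mpr hQ1)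
      let π := QuotientGroup.mk' Q
      let P' : Sylow p (G ⧸ Q) := P.mapSurjective (QuotientGroup.mk'_surjective Q)
      have hP' : (P' : Subgroup (G ⧸ Q)) = (P : Subgroup G).map π := rfl
      have hcyc' : IsCyclic P' := by
        haveI := hcyc
        exact isCyclic_of_surjective (π.subgroupMap (P : Subgroup G))
          (π.subgroupMap_surjective _)
      obtain ⟨kQ, hkQ⟩ := IsPGroup.iff_card.mp hQp
      have hlift : ∀ H : Subgroup (G ⧸ Q), ¬ p ∣ Nat.card H →
          ∃ K : Subgroup G, ¬ p ∣ Nat.card K ∧ H = K.map π := by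
        intro H hH
        have hQH : Q ≤ H.comap π := fun x hx => by
          rw [mem_comap, (QuotientGroup.eq_one_iff x).mpr hx |> fun e => (show π x = 1 from e)]
          exact one_mem _
        have hidx : Q.relIndex (H.comap π) = Nat.card H := by
          have := relIndex_comap (⊥ : Subgroup (G ⧸ Q)) π (H.comap π)
          rw [MonoidHom.comap_bot, QuotientGroup.ker_mk', relIndex_bot_left,
            map_comap_eq_self_of_surjective (QuotientGroup.mk'_surjective Q)] at this
          exact this
        obtain ⟨K, hK, hKc, hKs⟩ := exists_complement_in hQH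
          (normal_subgroupOf_iff_le_normalizer hQH |>.mpr (by rw [normalizer_eq_top]; exact le_top))
          (by
            rw [hidx, hkQ]
            exact Nat.Coprime.pow_left _ (hp.out.coprime_iff_not_dvd.mpr hH))
        refine ⟨K, by rw [hKc, hidx]; exact hH, ?_⟩
        have h1 := congrArg (Subgroup.map π) hKs
        rw [Subgroup.map_sup, map_comap_eq_self_of_surjective (QuotientGroup.mk'_surjective Q),
          QuotientGroup.map_mk'_self, bot_sup_eq] at h1
        exact h1.symm
      have hab' : ∀ H : Subgroup (G ⧸ Q), ¬ p ∣ Nat.card H → IsMulCommutative H := by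
        intro H hH
        obtain ⟨K, hK, rfl⟩ := hlift H hH
        haveI := hab K hK
        infer_instance
      rcases ih _ hlt (G ⧸ Q) rfl P' hcyc' hab' with h | h
      · -- the complement of `G ⧸ Q` lifts
        refine Or.inl ?_
        set R := Cfsg.pResidual p (G ⧸ Q) with hR
        haveI hRn : R.Normal := Transfer.pResidual_normal
        obtain ⟨K, hK, hKR⟩ := hlift R (Transfer.hasNormalPComplement_iff.mp h)
        have hres : Cfsg.pResidual p G ≤ K := by
          rw [Transfer.pResidual_le_iff]
          intro g hg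
          have h1 : π g ∈ R := Transfer.mem_pResidual_of_coprime
            (hg.coprime_dvd_left (orderOf_map_dvd π g))
          rw [hKR] at h1
          obtain ⟨k, hk, hkg⟩ := h1
          have hq : k⁻¹ * g ∈ Q := QuotientGroup.eq.mp hkg
          have hcq : Commute k (k⁻¹ * g) :=
            (mem_centralizer_iff.mp ((hCt ▸ mem_top k : k ∈ C)) _ hq).symm
          have hpow : (k⁻¹ * g) ^ (Nat.card K * orderOf g) = 1 := by
            have h2 : (k * (k⁻¹ * g)) ^ (Nat.card K * orderOf g) = 1 := by
              rw [mul_inv_cancel_left, mul_comm, pow_mul, pow_orderOf_eq_one, one_pow]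
            have h3 : k ^ Nat.card K = 1 := by
              have := pow_card_eq_one' (G := K) (x := ⟨k, hk⟩)
              exact congrArg Subtype.val this
            rwa [hcq.mul_pow, pow_mul k, h3, one_pow, one_mul] at h2
          have := eq_one_of_pow_of_coprime (mem_pow_eq_one hQp hq)
            ((Nat.Coprime.mul_left ((hp.out.coprime_iff_not_dvd.mpr hK).symm) hg).coprime_dvd_left
              (orderOf_dvd_of_pow_eq_one hpow))
          rw [← inv_mul_eq_one.mp this]
          exact hk
        exact Transfer.hasNormalPComplement_iff.mpr fun hd =>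
          hK (hd.trans (card_dvd_of_le hres))
      · right
        have h1 := h.comap π
        rwa [hP', comap_map_eq, QuotientGroup.ker_mk', sup_eq_left.mpr hQP] at h1
    · -- induction in `C`
      right
      let PC : Sylow p C := P.subtype hPC
      have hPCn : (PC : Subgroup C).Normal := by
        rcases hsub C hCt PC with h | h
        · have hnd := Transfer.hasNormalPComplement_iff.mp h
          have hbot : Cfsg.pResidual p C = ⊥ := by
            have hchar : (Cfsg.pResidual p C).Characteristic :=
              characteristic_iff_map_le.mpr fun e => Transfer.map_pResidual_le e.toMonoidHom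
            haveI := hchar
            by_contra hne
            refine (?_ : ¬ p ∣ Nat.card ((Cfsg.pResidual p C).map C.subtype))
              (hN _ inferInstance ?_)
            · rwa [card_map_of_injective C.subtype_injective]
            · rwa [Ne, map_eq_bot_iff_of_injective _ C.subtype_injective]
          have hc := Transfer.isComplement'_pResidual PC hnd
          rw [hbot] at hc
          rw [isComplement'_bot_left.mp hc]
          infer_instance
        · exact h
      haveI := Sylow.characteristic_of_normal PC hPCn
      have := ConjAct.normal_of_characteristic_of_normal (H := C) (K := (PC : Subgroup C))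
      rwa [Sylow.coe_subtype, map_subgroupOf_eq_of_le hPC] at this
  push Not at hM
  -- `G` is simple
  by_cases hcom : ∀ a b : G, a * b = b * a
  · exact Or.inr ⟨fun x hx g => by rwa [hcom g x, mul_inv_cancel_right]⟩
  by_cases hp2 : p = 2
  · left
    subst hp2
    have hmin : (Nat.card G).minFac = 2 := (Nat.minFac_eq_two_iff _).mpr hpG
    exact Transfer.hasNormalPComplement_of_normalizer_le_centralizer P
      (IsCyclic.normalizer_le_centralizer hmin hcyc)
  exfalso
  haveI : Nontrivial G := by
    obtain ⟨x, hx⟩ := exists_prime_orderOf_dvd_card' p hpG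
    exact ⟨⟨x, 1, fun e => hp.out.ne_one (by rw [← hx, e, orderOf_one])⟩⟩
  have hsimp : IsSimpleGroup G :=
    ⟨fun M hMn => or_iff_not_imp_left.mpr (hM M hMn)⟩
  push Not at hcom
  have S : Setup p G :=
    { simple := hsimp
      nonab := hcom
      odd := hp2
      dvd := hpG
      cyc := fun Q => isCyclic_of_isPGroup P hcyc Q.2
      hab := hab
      dich := fun Q H hH hQH => (hsub H hH (Q.subtype hQH)).imp id (fun h => by
        rwa [Sylow.coe_subtype] at h) }
  by_cases hZ : ∀ Q : Sylow p G, centralizer ((Q : Subgroup G) : Set G) ≤ (Q : Subgroup G)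
  · exact S.false_of_self_centralizing hZ
  · push Not at hZ
    obtain ⟨Q, hQ⟩ := hZ
    obtain ⟨g, hg, hgQ⟩ := SetLike.not_le_iff_exists.mp hQ
    exact S.false_of_central Q hg hgQ

end Cfsg.Agent.Lib.CyclicSylow90
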