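import Cfsg.Agent.Lib.CyclicSylow90.Basic
import Cfsg.Agent.Lib.Factorized.Basic

/-!
Simple groups with a cyclic Sylow `p`-subgroup and abelian `p'`-subgroups: local structure.
-/

set_option autoImplicit false

namespace Cfsg.Agent.Lib.CyclicSylow90

open Subgroup

universe u

variable {G : Type u} [Group G] [Finite G] {p : ℕ}

theorem not_dvd_card_sup [hp : Fact p.Prime] {X Y : Subgroup G}
    (hn : Y ≤ normalizer (X : Set G)) (hX : ¬ p ∣ Nat.card X) (hY : ¬ p ∣ Nat.card Y) :
    ¬ p ∣ Nat.card ↥(X ⊔ Y) := by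
  have h1 := Factorized.card_set_mul_mul_card_inf X Y
  rw [← Subgroup.coe_mul_of_right_le_normalizer_left X Y hn] at h1
  intro hd
  rcases hp.out.dvd_mul.mp (h1 ▸ hd.mul_right _) with h | h
  exacts [hX h, hY h]

theorem not_dvd_card_zpowers [hp : Fact p.Prime] {b : G} (hb : (orderOf b).Coprime p) :
    ¬ p ∣ Nat.card (zpowers b) := by
  rw [Nat.card_zpowers]
  exact hp.out.coprime_iff_not_dvd.mp hb.symm

theorem isPGroup_zpowers [Fact p.Prime] {a : G} (ha : ∃ k, a ^ p ^ k = 1) :
    IsPGroup p (zpowers a) := by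
  obtain ⟨k, hk⟩ := ha
  rintro ⟨y, hy⟩
  obtain ⟨i, rfl⟩ := mem_zpowers_iff.mp hy
  refine ⟨k, Subtype.ext ?_⟩
  change (a ^ i) ^ p ^ k = 1
  rw [← zpow_natCast, ← zpow_mul, mul_comm, zpow_mul, zpow_natCast, hk, one_zpow]

/-- A `p`-element normalising a Sylow `p`-subgroup lies in it. -/
theorem mem_sylow_of_normalizer [Fact p.Prime] (P : Sylow p G) {a : G}
    (ha : a ∈ normalizer ((P : Subgroup G) : Set G)) (hpa : ∃ k, a ^ p ^ k = 1) :
    a ∈ (P : Subgroup G) := by
  have hsup : IsPGroup p ↥((P : Subgroup G) ⊔ zpowers a) :=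
    IsPGroup.to_sup_of_normal_left' P.2 (isPGroup_zpowers hpa) (zpowers_le.mpr ha)
  exact P.is_maximal' hsup le_sup_left ▸ mem_sup_right (mem_zpowers a)

theorem eq_one_of_pow_of_coprime [hp : Fact p.Prime] {x : G} (h1 : ∃ k, x ^ p ^ k = 1)
    (h2 : (orderOf x).Coprime p) : x = 1 := by
  obtain ⟨k, hk⟩ := h1
  exact orderOf_eq_one_iff.mp
    ((h2.pow_right k).eq_one_of_dvd (orderOf_dvd_of_pow_eq_one hk))

theorem mem_pow_eq_one {P : Subgroup G} [Fact p.Prime] (hP : IsPGroup p P) {x : G} (hx : x ∈ P) :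
    ∃ k, x ^ p ^ k = 1 := by
  obtain ⟨k, hk⟩ := hP ⟨x, hx⟩
  exact ⟨k, congrArg Subtype.val hk⟩

theorem coprime_orderOf_of_mem [hp : Fact p.Prime] {K : Subgroup G} (hK : ¬ p ∣ Nat.card K)
    {x : G} (hx : x ∈ K) : (orderOf x).Coprime p :=
  ((hp.out.coprime_iff_not_dvd.mpr hK).symm).coprime_dvd_left (K.orderOf_dvd_natCard hx)

variable [hp : Fact p.Prime]

/-- The situation of a minimal counterexample. -/
structure Setup (p : ℕ) (G : Type u) [Group G] : Prop where
  simple : IsSimpleGroup G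
  nonab : ∃ a b : G, a * b ≠ b * a
  odd : p ≠ 2
  dvd : p ∣ Nat.card G
  cyc : ∀ P : Sylow p G, IsCyclic P
  hab : ∀ H : Subgroup G, ¬ p ∣ Nat.card H → IsMulCommutative H
  dich : ∀ (P : Sylow p G) (H : Subgroup G), H ≠ ⊤ → (P : Subgroup G) ≤ H →
    Cfsg.HasNormalPComplement p H ∨ ((P : Subgroup G).subgroupOf H).Normal

namespace Setup

variable (S : Setup p G)
include S

omit [Finite G] hp in
theorem normal_eq {N : Subgroup G} (h : N.Normal) : N = ⊥ ∨ N = ⊤ :=
  haveI := S.simple
  h.eq_bot_or_eq_top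

omit [Finite G] hp in
theorem normalizer_ne_top {Q : Subgroup G} (h1 : Q ≠ ⊥) (h2 : Q ≠ ⊤) :
    normalizer (Q : Set G) ≠ ⊤ := fun h =>
  (S.normal_eq (normalizer_eq_top_iff.mp h)).elim h1 h2

omit [Finite G] hp in
theorem centralizer_ne_top {x : G} (hx : x ≠ 1) : centralizer ({x} : Set G) ≠ ⊤ := by
  intro h
  have hxc : x ∈ center G := mem_center_iff.mpr fun g => by
    have := mem_centralizer_singleton_iff.mp (h ▸ mem_top g : g ∈ centralizer ({x} : Set G))
    exact this
  rcases S.normal_eq (N := center G) inferInstance with h' | h'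
  · exact hx (mem_bot.mp (h' ▸ hxc))
  · obtain ⟨a, b, hab⟩ := S.nonab
    exact hab ((mem_center_iff.mp (h' ▸ mem_top b : b ∈ center G) a))

omit hp in
theorem commute_of_mem {K : Subgroup G} (hK : ¬ p ∣ Nat.card K) {a b : G} (ha : a ∈ K)
    (hb : b ∈ K) : a * b = b * a :=
  haveI := S.hab K hK
  congrArg Subtype.val (mul_comm' (⟨a, ha⟩ : K) ⟨b, hb⟩)

omit hp in
theorem commute_of_mem_sylow (P : Sylow p G) {a b : G} (ha : a ∈ (P : Subgroup G))
    (hb : b ∈ (P : Subgroup G)) : a * b = b * a :=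
  haveI := S.cyc P
  haveI := IsCyclic.isMulCommutative (α := (P : Subgroup G))
  congrArg Subtype.val (mul_comm' (⟨a, ha⟩ : (P : Subgroup G)) ⟨b, hb⟩)

theorem sylow_ne_bot (P : Sylow p G) : (P : Subgroup G) ≠ ⊥ := P.ne_bot_of_dvd_card S.dvd

theorem sylow_ne_top (P : Sylow p G) : (P : Subgroup G) ≠ ⊤ := by
  intro h
  obtain ⟨a, b, hab⟩ := S.nonab
  exact hab (S.commute_of_mem_sylow P (h ▸ mem_top a) (h ▸ mem_top b))

theorem not_npc : ¬ Cfsg.HasNormalPComplement p G := by
  intro h
  have hnd := Transfer.hasNormalPComplement_iff.mp h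
  rcases S.normal_eq (Transfer.pResidual_normal (p := p) (G := G)) with h' | h'
  · have hc := Transfer.isComplement'_pResidual (default : Sylow p G) hnd
    rw [h'] at hc
    exact S.sylow_ne_top default (isComplement'_bot_left.mp hc)
  · rw [h', card_top] at hnd
    exact hnd S.dvd

/-- Some element normalising a Sylow `p`-subgroup does not centralise it. -/
theorem exists_mover (P : Sylow p G) :
    ∃ g ∈ normalizer ((P : Subgroup G) : Set G), g ∉ centralizer ((P : Subgroup G) : Set G) := by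
  by_contra h
  push Not at h
  exact S.not_npc (Transfer.hasNormalPComplement_of_normalizer_le_centralizer P h)

theorem not_npc_normalizer (P : Sylow p G) {H : Subgroup G}
    (hH : normalizer ((P : Subgroup G) : Set G) ≤ H) : ¬ Cfsg.HasNormalPComplement p H := by
  intro h
  obtain ⟨g, hg, hgc⟩ := S.exists_mover P
  have hN : Cfsg.HasNormalPComplement p ↥(normalizer ((P : Subgroup G) : Set G)) :=
    Transfer.hasNormalPComplement_of_injective (Subgroup.inclusion hH) (inclusion_injective hH) h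
  have hnd := Transfer.hasNormalPComplement_iff.mp hN
  obtain ⟨a, b, rfl, ha, hb, haz, hbz⟩ := exists_parts (p := p) g
  have haP := mem_sylow_of_normalizer P (zpowers_le.mpr hg haz) ha
  have hbN := zpowers_le.mpr hg hbz
  have hbR : (⟨b, hbN⟩ : ↥(normalizer ((P : Subgroup G) : Set G))) ∈ Cfsg.pResidual p _ :=
    Transfer.mem_pResidual_of_coprime (by rwa [Subgroup.orderOf_mk])
  refine hgc (mem_centralizer_iff.mpr fun x hx => ?_)
  have hxN : x ∈ normalizer ((P : Subgroup G) : Set G) := le_normalizer hx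
  have hcR : (⟨x * b * x⁻¹ * b⁻¹, mul_mem (mul_mem (mul_mem hxN hbN) (inv_mem hxN)) (inv_mem hbN)⟩
      : ↥(normalizer ((P : Subgroup G) : Set G))) ∈ Cfsg.pResidual p _ := by
    have h1 := (Transfer.pResidual_normal (p := p)
      (G := ↥(normalizer ((P : Subgroup G) : Set G)))).conj_mem _ hbR ⟨x, hxN⟩
    exact mul_mem h1 (inv_mem hbR)
  have hcop := coprime_orderOf_of_mem hnd hcR
  rw [Subgroup.orderOf_mk] at hcop
  have hcP : x * b * x⁻¹ * b⁻¹ ∈ (P : Subgroup G) := by
    have h2 : b * x⁻¹ * b⁻¹ ∈ (P : Subgroup G) :=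
      (mem_normalizer_iff.mp hbN x⁻¹).mp (inv_mem hx)
    have h3 := mul_mem hx h2
    simpa only [mul_assoc] using h3
  have hxb : x * b = b * x := by
    have h4 := eq_one_of_pow_of_coprime (mem_pow_eq_one P.2 hcP) hcop
    exact mul_inv_eq_iff_eq_mul.mp (mul_inv_eq_one.mp h4)
  rw [← mul_assoc, S.commute_of_mem_sylow P hx haP, mul_assoc, hxb, mul_assoc]

theorem le_normalizer_sylow (P : Sylow p G) {H : Subgroup G} (hH : H ≠ ⊤)
    (hN : normalizer ((P : Subgroup G) : Set G) ≤ H) :
    H = normalizer ((P : Subgroup G) : Set G) := by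
  rcases S.dich P H hH (le_normalizer.trans hN) with h | h
  · exact absurd h (S.not_npc_normalizer P hN)
  · exact le_antisymm (le_normalizer_of_normal_subgroupOf (le_normalizer.trans hN)) hN

/-- The centraliser of a nontrivial element of a Sylow `p`-subgroup is that of the subgroup. -/
theorem centralizer_eq (P : Sylow p G) {u : G} (hu : u ∈ (P : Subgroup G)) (hu1 : u ≠ 1) :
    centralizer ({u} : Set G) = centralizer ((P : Subgroup G) : Set G) := by
  haveI := S.cyc P
  refine le_antisymm ?_ (centralizer_le (Set.singleton_subset_iff.mpr hu))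
  intro g hg
  have hgu : g * u = u * g := mem_centralizer_singleton_iff.mp hg
  have hQ1 : zpowers u ≠ ⊥ := by rwa [Ne, zpowers_eq_bot]
  have hQ2 : zpowers u ≠ ⊤ := fun h =>
    S.sylow_ne_top P (top_le_iff.mp (h ▸ zpowers_le.mpr hu))
  have hgQ : g ∈ normalizer (zpowers u : Set G) := by
    rw [mem_normalizer_iff]
    have hcm : ∀ h ∈ zpowers u, g * h = h * g := by
      intro h hh
      obtain ⟨i, rfl⟩ := mem_zpowers_iff.mp hh
      exact (Commute.zpow_right hgu i)
    intro h
    constructor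
    · intro hh; rwa [hcm h hh, mul_inv_cancel_right]
    · intro hh
      have := hcm _ hh
      rw [show g * h * g⁻¹ * g = g * h from inv_mul_cancel_right _ _] at this
      exact mul_left_cancel this ▸ hh
  have hle : normalizer ((P : Subgroup G) : Set G) ≤ normalizer (zpowers u : Set G) := by
    intro n hn
    have key : ∀ m ∈ normalizer ((P : Subgroup G) : Set G), ∀ h ∈ zpowers u,
        m * h * m⁻¹ ∈ zpowers u := by
      intro m hm h hh
      obtain ⟨a, ha⟩ := exists_pow_conj (S.cyc P) hm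
      rw [ha h (zpowers_le.mpr hu hh)]
      exact pow_mem hh a
    rw [mem_normalizer_iff]
    refine fun h => ⟨key n hn h, fun hh => ?_⟩
    have := key n⁻¹ (inv_mem hn) _ hh
    simpa [mul_assoc] using this
  have hN := S.le_normalizer_sylow P (S.normalizer_ne_top hQ1 hQ2) hle
  rw [hN] at hgQ
  obtain ⟨a, b, rfl, ha, hb, haz, hbz⟩ := exists_parts (p := p) g
  have haP := mem_sylow_of_normalizer P (zpowers_le.mpr hgQ haz) ha
  have hbu : b * u = u * b := by
    obtain ⟨i, hi⟩ := mem_zpowers_iff.mp hbz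
    rw [← hi]; exact Commute.zpow_left hgu i
  have hbc := commute_of_fixed P.2 (S.cyc P) (zpowers_le.mpr hgQ hbz) hb hu hu1
    (mul_inv_eq_iff_eq_mul.mpr hbu)
  refine mem_centralizer_iff.mpr fun x hx => ?_
  rw [← mul_assoc, S.commute_of_mem_sylow P hx haP, mul_assoc, ← hbc x hx, mul_assoc]

/-- A `p'`-element of the centraliser of `P` centralises every `p'`-part of `N(P)`. -/
theorem centralizer_eq_normalizer (P : Sylow p G) {z : G}
    (hz : z ∈ centralizer ((P : Subgroup G) : Set G)) (hzo : (orderOf z).Coprime p) (hz1 : z ≠ 1) :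
    centralizer ({z} : Set G) = normalizer ((P : Subgroup G) : Set G) := by
  refine S.le_normalizer_sylow P (S.centralizer_ne_top hz1) fun g hg => ?_
  obtain ⟨a, b, rfl, ha, hb, haz, hbz⟩ := exists_parts (p := p) g
  have haP := mem_sylow_of_normalizer P (zpowers_le.mpr hg haz) ha
  have hbN := zpowers_le.mpr hg hbz
  refine mul_mem (mem_centralizer_singleton_iff.mpr (mem_centralizer_iff.mp hz a haP)) ?_
  -- the `p'`-elements of `C(P)` form a normal `p'`-subgroup of `N(P)`
  set L : Subgroup G := centralizer ((P : Subgroup G) : Set G) with hL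
  have hPL : (P : Subgroup G) ≤ L := fun x hx =>
    mem_centralizer_iff.mpr fun y hy => S.commute_of_mem_sylow P hy hx
  have hLnpc : Cfsg.HasNormalPComplement p L := by
    refine Transfer.hasNormalPComplement_of_normalizer_le_centralizer (P.subtype hPL) ?_
    intro x _
    refine mem_centralizer_iff.mpr fun y hy => Subtype.ext ?_
    exact mem_centralizer_iff.mp x.2 _ hy
  have hnd := Transfer.hasNormalPComplement_iff.mp hLnpc
  set Z : Subgroup G := (Cfsg.pResidual p L).map L.subtype with hZ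
  have hzZ : z ∈ Z := ⟨⟨z, hz⟩,
    Transfer.mem_pResidual_of_coprime (by rwa [Subgroup.orderOf_mk]), rfl⟩
  have hZnd : ¬ p ∣ Nat.card Z := by
    rwa [hZ, card_map_of_injective L.subtype_injective]
  have hbZ : b ∈ normalizer (Z : Set G) := by
    have hmap : ∀ m ∈ normalizer ((P : Subgroup G) : Set G), ∀ x ∈ Z, m * x * m⁻¹ ∈ Z := by
      rintro m hm _ ⟨⟨x, hx⟩, hxR, rfl⟩
      have hx' : m * x * m⁻¹ ∈ L := by
        refine mem_centralizer_iff.mpr fun y hy => ?_
        have h1 : m⁻¹ * y * m ∈ (P : Subgroup G) := by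
          have := (mem_normalizer_iff.mp (inv_mem hm) y).mp hy
          rwa [inv_inv] at this
        have h2 := mem_centralizer_iff.mp hx _ h1
        calc y * (m * x * m⁻¹) = m * ((m⁻¹ * y * m) * x) * m⁻¹ := by group
          _ = m * (x * (m⁻¹ * y * m)) * m⁻¹ := by rw [h2]
          _ = m * x * m⁻¹ * y := by group
      refine ⟨⟨_, hx'⟩, Transfer.mem_pResidual_of_coprime ?_, rfl⟩
      rw [Subgroup.orderOf_mk]
      have hxo := coprime_orderOf_of_mem hnd hxR
      rw [Subgroup.orderOf_mk] at hxo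
      rw [show m * x * m⁻¹ = MulAut.conj m x from rfl, MulEquiv.orderOf_eq]
      exact hxo
    rw [mem_normalizer_iff]
    refine fun x => ⟨hmap b hbN x, fun hx => ?_⟩
    have := hmap b⁻¹ (inv_mem hbN) _ hx
    simpa [mul_assoc] using this
  have hK := not_dvd_card_sup (zpowers_le.mpr hbZ) hZnd (not_dvd_card_zpowers hb)
  exact mem_centralizer_singleton_iff.mpr
    (S.commute_of_mem hK (mem_sup_right (mem_zpowers b)) (mem_sup_left hzZ))

/-- Burnside: some `p`-element induces a nontrivial automorphism of a Sylow `r`-subgroup. -/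
theorem exists_sylow_mover {r : ℕ} [hr : Fact r.Prime] (hrp : r ≠ p) (hrG : r ∣ Nat.card G)
    (R : Sylow r G) :
    ∃ y ∈ normalizer ((R : Subgroup G) : Set G), (∃ k, y ^ p ^ k = 1) ∧
      y ∉ centralizer ((R : Subgroup G) : Set G) := by
  by_contra hc
  push Not at hc
  have hRnd : ¬ p ∣ Nat.card (R : Subgroup G) := by
    obtain ⟨k, hk⟩ := IsPGroup.iff_card.mp R.2
    rw [hk]
    exact fun h => hrp ((Nat.prime_dvd_prime_iff_eq hp.out hr.out).mp
      (hp.out.dvd_of_dvd_pow h)).symm
  have hle : normalizer ((R : Subgroup G) : Set G) ≤ centralizer ((R : Subgroup G) : Set G) := by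
    intro g hg
    obtain ⟨a, b, rfl, ha, hb, haz, hbz⟩ := exists_parts (p := p) g
    have hbN : b ∈ normalizer ((R : Subgroup G) : Set G) := zpowers_le.mpr hg hbz
    refine mul_mem (hc a (zpowers_le.mpr hg haz) ha) (mem_centralizer_iff.mpr fun x hx => ?_)
    exact S.commute_of_mem (not_dvd_card_sup (zpowers_le.mpr hbN) hRnd (not_dvd_card_zpowers hb))
      (mem_sup_left hx) (mem_sup_right (mem_zpowers b))
  have hn := Transfer.hasNormalPComplement_of_normalizer_le_centralizer R hle
  have hnd := Transfer.hasNormalPComplement_iff.mp hn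
  rcases S.normal_eq (Transfer.pResidual_normal (p := r) (G := G)) with h' | h'
  · have h1 := Transfer.isComplement'_pResidual R hnd
    rw [h'] at h1
    apply hRnd
    rw [isComplement'_bot_left.mp h1, card_top]
    exact S.dvd
  · rw [h', card_top] at hnd
    exact hnd hrG

end Setup

end Cfsg.Agent.Lib.CyclicSylow90
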